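import Cfsg.Agent.H867.Gen.Comm
import Cfsg.Agent.Involutions.BaerSuzuki

/-!
# S4327: one prime is free (helper867)

* `CG_of_mem`, `CA_of_mem` : `z` lies in the group generated by `n` conjugates of `x` and `k` conjugates of `z` generate `L`:
  then `n k` conjugates of `x` do it.
* `exists_pair` (Baer-Suzuki): `x` and some conjugate generate a group with an element of prime order `q ≠ p`.
* `GenI_of_baer` : if `k` conjugates suffice for all primes `q ≠ p` then `2 k` suffice for `p`.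
* `CA_of_baer` : the same for (outer or inner) automorphisms of order `p`.
* `gen11_of_odd` : `GenI L 5 q` for all odd primes is enough; `gen11_of_ne` : all primes except one and the outer involutions.
-/

set_option autoImplicit false

namespace Cfsg.Agent.H867.Gen.Baer

open Subgroup Cfsg.Agent.H147.Gen Cfsg.Agent.H867.Gen.Comm

variable {L : Type*} [Group L]

/-- conjugates of an element of a group generated by conjugates of `x` -/
theorem mem_conj_closure {M : Type*} [Group M] {x z : M} {n : ℕ} {f : Fin n → M}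
    (hz : z ∈ closure (Set.range fun i => f i * x * (f i)⁻¹)) (g : M) (H : Subgroup M)
    (hH : ∀ i, (g * f i) * x * (g * f i)⁻¹ ∈ H) : g * z * g⁻¹ ∈ H := by
  have h1 : closure (Set.range fun i => f i * x * (f i)⁻¹) ≤ H.comap (MulAut.conj g).toMonoidHom := by
    rw [closure_le]
    rintro _ ⟨i, rfl⟩
    show g * (f i * x * (f i)⁻¹) * g⁻¹ ∈ H
    have e : g * (f i * x * (f i)⁻¹) * g⁻¹ = (g * f i) * x * (g * f i)⁻¹ := by group
    rw [e]
    exact hH i
  exact h1 hz

theorem CG_of_mem {x z : L} {n k l : ℕ} (f : Fin n → L)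
    (hz : z ∈ closure (Set.range fun i => f i * x * (f i)⁻¹)) (h : CG k z) (hl : n * k ≤ l) : CG l x := by
  obtain ⟨g, hg⟩ := h
  refine CG.mono (k := n * k) ⟨fun m => g (finProdFinEquiv.symm m).2 * f (finProdFinEquiv.symm m).1, ?_⟩ hl
  rw [eq_top_iff, ← hg, closure_le]
  rintro _ ⟨j, rfl⟩
  refine mem_conj_closure hz (g j) _ fun i => subset_closure ⟨finProdFinEquiv (i, j), ?_⟩
  simp only [Equiv.symm_apply_apply]

theorem CA_of_mem {x : MulAut L} {z : L} {n k l : ℕ} (hn : 0 < n) (hk : 0 < k) (f : Fin n → L)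
    (hz : MulAut.conj z ∈ closure (Set.range fun i => MulAut.conj (f i) * x * (MulAut.conj (f i))⁻¹))
    (h : CG k z) (hl : n * k ≤ l) : CA l x := by
  obtain ⟨g, hg⟩ := h
  have hnk : 0 < n * k := Nat.mul_pos hn hk
  refine CA.mono (k := n * k) ⟨fun m => g (finProdFinEquiv.symm m).2 * f (finProdFinEquiv.symm m).1,
    eq_of_range_le hnk ?_⟩ hnk hl
  rw [MonoidHom.range_eq_map, ← hg, MonoidHom.map_closure, closure_le]
  rintro _ ⟨_, ⟨j, rfl⟩, rfl⟩
  rw [map_mul, map_mul, map_inv]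
  refine mem_conj_closure (f := fun i => MulAut.conj (f i)) hz (MulAut.conj (g j)) _
    fun i => subset_closure ⟨finProdFinEquiv (i, j), ?_⟩
  simp only [Equiv.symm_apply_apply, map_mul]

/-- two conjugates as a family -/
theorem pair_eq (x g : L) : (Set.range fun i : Fin 2 => (![1, g] i) * x * (![1, g] i)⁻¹) = {x, g * x * g⁻¹} := by
  ext y
  constructor
  · rintro ⟨i, rfl⟩
    fin_cases i
    · left; simp
    · right; simp
  · rintro (rfl | h)
    · exact ⟨0, by simp⟩
    · rw [Set.mem_singleton_iff] at h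
      exact ⟨1, by simp [h]⟩

theorem CG_of_pair {x z g : L} {k l : ℕ} (hz : z ∈ closure {x, g * x * g⁻¹}) (h : CG k z) (hl : 2 * k ≤ l) : CG l x :=
  CG_of_mem ![1, g] (by rw [pair_eq]; exact hz) h hl

/-- an element of prime order `q ≠ p` in a group which is not a `p`-group -/
theorem exists_prime {M : Type*} [Group M] [Finite M] {p : ℕ} (hp : p.Prime) {H : Subgroup M} (h : ¬ IsPGroup p H) :
    ∃ q z, q.Prime ∧ q ≠ p ∧ z ∈ H ∧ orderOf (z : M) = q := by
  by_contra hno
  apply h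
  have : Fact p.Prime := ⟨hp⟩
  rw [IsPGroup.iff_orderOf]
  intro a
  refine ⟨_, Nat.eq_prime_pow_of_unique_prime_dvd (orderOf_pos a).ne' fun {q} hq hqa => ?_⟩
  by_contra hne
  apply hno
  refine ⟨q, ((a ^ (orderOf a / q) : H) : M), hq, hne, (a ^ (orderOf a / q)).2, ?_⟩
  rw [Subgroup.orderOf_coe]
  exact orderOf_pow_orderOf_div (orderOf_pos a).ne' hqa

/-- **Baer-Suzuki** -/
theorem exists_pair [Finite L] {p : ℕ} (hp : p.Prime) {x : L} (h : ¬ IsPGroup p (normalClosure {x} : Subgroup L)) :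
    ∃ g z q, q.Prime ∧ q ≠ p ∧ orderOf z = q ∧ z ∈ closure {x, g * x * g⁻¹} := by
  have : Fact p.Prime := ⟨hp⟩
  by_contra hno
  apply h
  apply Cfsg.Agent.Involutions.BaerSuzuki.baer_suzuki_element
  intro g
  by_contra hg
  obtain ⟨q, z, hq, hqp, hz, ho⟩ := exists_prime hp hg
  exact hno ⟨g, z, q, hq, hqp, ho, hz⟩

/-- Baer-Suzuki inside a subgroup -/
theorem exists_pair_sub {M : Type*} [Group M] [Finite M] {p : ℕ} (hp : p.Prime) {A : Subgroup M} {x : M} (hxA : x ∈ A)
    (h : ∀ N : Subgroup M, IsPGroup p N → x ∈ N → (∀ b ∈ A, ∀ y ∈ N, b * y * b⁻¹ ∈ N) → False) :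
    ∃ g ∈ A, ∃ z ∈ A, ∃ q : ℕ, q.Prime ∧ q ≠ p ∧ orderOf z = q ∧ z ∈ closure {x, g * x * g⁻¹} := by
  have hN : ¬ IsPGroup p (normalClosure {(⟨x, hxA⟩ : A)} : Subgroup A) := by
    intro hP
    refine h _ (hP.map A.subtype) ⟨⟨x, hxA⟩, subset_normalClosure rfl, rfl⟩ ?_
    rintro b hb _ ⟨y, hy, rfl⟩
    exact ⟨⟨b, hb⟩ * y * ⟨b, hb⟩⁻¹, normalClosure_normal.conj_mem _ hy _, rfl⟩
  obtain ⟨g, z, q, hq, hqp, ho, hz⟩ := exists_pair hp hN
  refine ⟨g, g.2, z, z.2, q, hq, hqp, by rw [Subgroup.orderOf_coe, ho], ?_⟩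
  have h1 := mem_map_of_mem A.subtype hz
  rw [MonoidHom.map_closure, Set.image_pair] at h1
  exact h1

/-- **one prime is free** -/
theorem GenI_of_baer [Finite L] [IsSimpleGroup L] {p k l : ℕ} (hp : p.Prime) (hL : ¬ IsPGroup p L)
    (h : ∀ q : ℕ, q.Prime → q ≠ p → GenI L k q) (hl : 2 * k ≤ l) : GenI L l p := by
  intro x hx
  have hN : ¬ IsPGroup p (normalClosure {x} : Subgroup L) := by
    intro hP
    rcases (inferInstance : (normalClosure {x} : Subgroup L).Normal).eq_bot_or_eq_top with h1 | h1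
    · have h2 : x ∈ (normalClosure {x} : Subgroup L) := subset_normalClosure rfl
      rw [h1, mem_bot] at h2
      rw [h2, orderOf_one] at hx
      exact hp.one_lt.ne hx
    · rw [h1] at hP
      exact hL (hP.of_equiv topEquiv)
  obtain ⟨g, z, q, hq, hqp, ho, hz⟩ := exists_pair hp hN
  exact CG_of_pair hz (h q hq hqp z ho) hl

/-! ### automorphisms -/

/-- the automorphism `x` with the inner automorphisms -/
local notation "AA" x => (zpowers x ⊔ MonoidHom.range (MulAut.conj : L →* MulAut L) : Subgroup (MulAut L))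

/-- conjugates of `x` in `⟨x, Inn L⟩` -/
theorem exists_inner {x g : MulAut L} (hg : g ∈ AA x) : ∃ b : L, g * x * g⁻¹ = MulAut.conj b * x * (MulAut.conj b)⁻¹ := by
  rw [sup_comm, ← SetLike.mem_coe, Subgroup.normal_mul] at hg
  obtain ⟨_, ⟨b, rfl⟩, y, hy, rfl⟩ := hg
  obtain ⟨k, rfl⟩ := mem_zpowers_iff.1 hy
  refine ⟨b, ?_⟩
  show MulAut.conj b * x ^ k * x * (MulAut.conj b * x ^ k)⁻¹ = _
  group

theorem pow_mem_inn {x z : MulAut L} {p : ℕ} (hx : x ^ p = 1) (hz : z ∈ AA x) :
    z ^ p ∈ (MulAut.conj : L →* MulAut L).range := by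
  rw [← QuotientGroup.eq_one_iff, QuotientGroup.mk_pow]
  rw [← SetLike.mem_coe, Subgroup.mul_normal] at hz
  obtain ⟨y, hy, i, hi, rfl⟩ := hz
  obtain ⟨k, rfl⟩ := mem_zpowers_iff.1 hy
  have h1 : ((i : MulAut L) : MulAut L ⧸ (MulAut.conj : L →* MulAut L).range) = 1 := (QuotientGroup.eq_one_iff _).2 hi
  show ((x ^ k * i : MulAut L) : MulAut L ⧸ (MulAut.conj : L →* MulAut L).range) ^ p = 1
  rw [QuotientGroup.mk_mul, h1, mul_one, QuotientGroup.mk_zpow, ← zpow_natCast, ← zpow_mul, mul_comm, zpow_mul,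
    zpow_natCast, ← QuotientGroup.mk_pow, hx, QuotientGroup.mk_one, one_zpow]

/-- the elements of `L` whose inner automorphism lies in a normal `p`-subgroup containing `x` -/
theorem false_of_pgroup [IsSimpleGroup L] (hc : center L = ⊥) {p : ℕ} (hL : ¬ IsPGroup p L) {x : MulAut L} (hx : x ≠ 1)
    {N : Subgroup (MulAut L)} (hN : IsPGroup p N) (hxN : x ∈ N)
    (hn : ∀ b : L, ∀ y ∈ N, MulAut.conj b * y * (MulAut.conj b)⁻¹ ∈ N) : False := by
  have hK : (N.comap (MulAut.conj : L →* MulAut L)).Normal := ⟨by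
    intro y hy b
    rw [mem_comap, map_mul, map_mul, map_inv]
    exact hn b _ hy⟩
  rcases hK.eq_bot_or_eq_top with h | h
  · apply hx
    ext a
    have h1 : x a * a⁻¹ ∈ N.comap (MulAut.conj : L →* MulAut L) := by
      rw [mem_comap, map_mul, map_inv, ← aut_conj]
      have h2 := N.mul_mem hxN (hn a _ (N.inv_mem hxN))
      have e : x * (MulAut.conj a * x⁻¹ * (MulAut.conj a)⁻¹) = x * MulAut.conj a * x⁻¹ * (MulAut.conj a)⁻¹ := by group
      rwa [e] at h2
    rw [h, mem_bot, mul_inv_eq_one] at h1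
    exact h1
  · apply hL
    refine hN.of_injective ((MulAut.conj : L →* MulAut L).codRestrict N fun a => ?_) fun a b hab => ?_
    · have : a ∈ N.comap (MulAut.conj : L →* MulAut L) := by rw [h]; exact mem_top a
      exact this
    · exact conj_inj hc (congrArg (Subtype.val) hab)

/-- **Baer-Suzuki for automorphisms** -/
theorem exists_pair_aut [Finite L] [IsSimpleGroup L] (hc : center L = ⊥) {p : ℕ} (hp : p.Prime) (hL : ¬ IsPGroup p L)
    {x : MulAut L} (hx : orderOf x = p) : ∃ b z q, q.Prime ∧ q ≠ p ∧ orderOf z = q ∧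
      MulAut.conj z ∈ closure {x, MulAut.conj b * x * (MulAut.conj b)⁻¹} := by
  have hx1 : x ≠ 1 := by
    rintro rfl
    rw [orderOf_one] at hx
    exact hp.one_lt.ne hx
  have hxA : x ∈ AA x := mem_sup_left (mem_zpowers x)
  have hfin : Finite (MulAut L) := inferInstance
  obtain ⟨g, hgA, z, hzA, q, hq, hqp, ho', hz1⟩ := exists_pair_sub hp hxA fun N hN hxN hn =>
    false_of_pgroup hc hL hx1 hN hxN fun b => hn _ (mem_sup_right ⟨b, rfl⟩)
  obtain ⟨b, hb⟩ := exists_inner hgA
  rw [hb] at hz1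
  have hzi : (z : MulAut L) ∈ (MulAut.conj : L →* MulAut L).range := by
    have h1 := pow_mem_inn (p := p) (by rw [← hx, pow_orderOf_eq_one]) hzA
    rw [← QuotientGroup.eq_one_iff, QuotientGroup.mk_pow] at h1
    rw [← QuotientGroup.eq_one_iff, ← orderOf_eq_one_iff]
    have h2 : orderOf ((z : MulAut L) : MulAut L ⧸ (MulAut.conj : L →* MulAut L).range) ∣ p := orderOf_dvd_of_pow_eq_one h1
    have h3 : orderOf ((z : MulAut L) : MulAut L ⧸ (MulAut.conj : L →* MulAut L).range) ∣ q := by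
      rw [← ho']
      exact orderOf_map_dvd (QuotientGroup.mk' _) _
    exact Nat.eq_one_of_dvd_coprimes ((Nat.coprime_primes hp hq).2 (Ne.symm hqp)) h2 h3
  obtain ⟨z', hz'⟩ := hzi
  refine ⟨b, z', q, hq, hqp, ?_, by rw [hz']; exact hz1⟩
  rw [← ho', ← hz', orderOf_injective _ (conj_inj hc)]

theorem pair_eq_aut (x : MulAut L) (b : L) : (Set.range fun i : Fin 2 => MulAut.conj (![1, b] i) * x *
    (MulAut.conj (![1, b] i))⁻¹) = {x, MulAut.conj b * x * (MulAut.conj b)⁻¹} := by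
  ext y
  constructor
  · rintro ⟨i, rfl⟩
    fin_cases i
    · left; simp
    · right; simp
  · rintro (rfl | h)
    · exact ⟨0, by simp⟩
    · rw [Set.mem_singleton_iff] at h
      exact ⟨1, by simp [h]⟩

/-- **automorphisms of order `p`, inner or outer** -/
theorem CA_of_baer [Finite L] [IsSimpleGroup L] (hc : center L = ⊥) {p k l : ℕ} (hp : p.Prime) (hL : ¬ IsPGroup p L)
    (h : ∀ q : ℕ, q.Prime → q ≠ p → GenI L k q) (hk : 0 < k) (hl : 2 * k ≤ l) {x : MulAut L} (hx : orderOf x = p) :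
    CA l x := by
  obtain ⟨b, z, q, hq, hqp, ho, hz⟩ := exists_pair_aut hc hp hL hx
  exact CA_of_mem (n := 2) two_pos hk ![1, b] (by rw [pair_eq_aut]; exact hz) (h q hq hqp z ho) hl

/-- all odd primes with five conjugates -/
theorem gen11_of_odd [Finite L] [IsSimpleGroup L] (hc : center L = ⊥) (hL : ¬ IsPGroup 2 L)
    (h2 : ∀ x : MulAut L, (orderOf x).Prime → x ∉ (MulAut.conj : L →* MulAut L).range → orderOf x = 2)
    (h : ∀ q : ℕ, q.Prime → q ≠ 2 → GenI L 5 q) : Gen11 L := by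
  intro x hx
  by_cases hx2 : orderOf x = 2
  · exact CA_of_baer hc Nat.prime_two hL h (by norm_num) (by norm_num) hx2
  · by_cases hr : x ∈ (MulAut.conj : L →* MulAut L).range
    · obtain ⟨g, rfl⟩ := hr
      have h1 := orderOf_injective _ (conj_inj hc) g
      exact ((h (orderOf g) (h1 ▸ hx) (h1 ▸ hx2) g rfl).mono (by norm_num)).ca
    · exact absurd (h2 x hx hr) hx2

/-- all primes except one with five conjugates, and the outer involutions -/
theorem gen11_of_ne [Finite L] [IsSimpleGroup L] (hc : center L = ⊥) {p : ℕ} (hp : p.Prime) (hL : ¬ IsPGroup p L)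
    (h2 : ∀ x : MulAut L, (orderOf x).Prime → x ∉ (MulAut.conj : L →* MulAut L).range → orderOf x = 2)
    (h : ∀ q : ℕ, q.Prime → q ≠ p → GenI L 5 q) (hO : GenO L 11) : Gen11 L := by
  refine gen11_of hc (fun q hq => ?_) h2 hO
  by_cases hqp : q = p
  · subst hqp
    exact GenI_of_baer hq hL h (by norm_num)
  · exact (h q hq hqp).mono (by norm_num)

end Cfsg.Agent.H867.Gen.Baer
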