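import Cfsg.Agent.H867.Gen.Tools
import Cfsg.Agent.H291.DG.Co3
import Cfsg.Agent.SigZero.CoThree

/-!
# S4327, row `Co3` (helper867)

`Co3` on 552 vectors; letters `0, …, 4` = `gx` (order 23), `gy` (order 11), `gd` (order 2), `gx⁻¹`, `gy⁻¹`.
* `⟨gd, gx⟩` is the whole group: two conjugates for the elements of order 23; orders 5, 7, 11: a product of two conjugates of
  order 23; the involutions: an element `y` of order 5 with `⟨x, y⟩` the whole group; order 3 is free (Baer-Suzuki).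
* `gen_co3` : `Gen11` (hypotheses: trivial centre, no outer automorphisms).
-/

set_option autoImplicit false
set_option maxRecDepth 100000
set_option exponentiation.threshold 10000

namespace Cfsg.Agent.H867.Gen.CoThree

open Subgroup Cfsg Cfsg.Agent.Schreier.CoThreeCent Cfsg.Agent.LeechPack.X552 Cfsg.Agent.H994.TwoGen.Words
  Cfsg.Agent.SporadicStructure.PermChain Cfsg.Agent.Schreier.CoThreeGens Cfsg.Agent.H291.DG.Co3
open Cfsg.Agent.H147.Gen Cfsg.Agent.H867.Gen.Comm Cfsg.Agent.H867.Gen.Baer Cfsg.Agent.H867.Gen.Tools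
open Cfsg.Agent.H526.PcNf

universe u

/-! ### words -/

/-- the element of a word -/
noncomputable def V (w : List ℕ) : G3 := val s w

theorem V_nil : V [] = 1 := rfl

theorem V_cons (k : ℕ) (w : List ℕ) : V (k :: w) = s k * V w := by
  unfold V val
  rw [List.map_cons, List.prod_cons]

theorem V_append (v w : List ℕ) : V (v ++ w) = V v * V w := by
  unfold V val
  rw [List.map_append, List.prod_append]

/-- inverse letters -/
def iv : ℕ → ℕ
  | 0 => 3
  | 1 => 4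
  | 2 => 2
  | 3 => 0
  | _ => 1

theorem gd_inv : gd⁻¹ = gd := inv_eq_of_mul_eq_one_left gd_mul_gd

theorem s_iv (k : ℕ) : s (iv k) = (s k)⁻¹ := by
  match k with
  | 0 => rfl
  | 1 => rfl
  | 2 => exact gd_inv.symm
  | 3 => exact (inv_inv gx).symm
  | k + 4 => exact (inv_inv gy).symm

/-- inverse words -/
def wi (w : List ℕ) : List ℕ := (w.map iv).reverse

theorem V_wi (w : List ℕ) : V (wi w) = (V w)⁻¹ := by
  induction w with
  | nil => exact inv_one.symm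
  | cons k w ih =>
    have e : wi (k :: w) = wi w ++ [iv k] := by
      unfold wi
      rw [List.map_cons, List.reverse_cons]
    rw [e, V_append, ih, V_cons, V_cons, V_nil, mul_one, s_iv, mul_inv_rev]

/-- repetition -/
def rp (n : ℕ) (w : List ℕ) : List ℕ := (List.replicate n w).flatten

theorem V_rp (n : ℕ) (w : List ℕ) : V (rp n w) = V w ^ n := by
  induction n with
  | zero => rfl
  | succ n ih =>
    unfold rp at ih ⊢
    rw [List.replicate_succ, List.flatten_cons, V_append, ih, pow_succ']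

/-- the word fixes a base -/
def chk1 (w : List ℕ) : Bool :=
  w.all (fun l => Nat.blt l 5) && [529, 25, 112, 44, 57, 208].all fun i => Nat.beq (evalWord 10 L0 w i) i

theorem V_one {w : List ℕ} (h : chk1 w = true) : V w = 1 := by
  unfold chk1 at h
  rw [Bool.and_eq_true] at h
  have key : ∀ i : Fin 552, (i : ℕ) ∈ [529, 25, 112, 44, 57, 208] → ψ (V w) i = i := fun i hi =>
    Fin.ext ((ev h.1 i).trans (Nat.eq_of_beq_eq_true (List.all_eq_true.1 h.2 i hi)))
  exact eq_one_of_base (key 529 (by decide)) (key 25 (by decide)) (key 112 (by decide)) (key 44 (by decide))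
    (key 57 (by decide)) (key 208 (by decide))

/-- iterated evaluation -/
def itr (w : List ℕ) : ℕ → ℕ → ℕ
  | 0, p => p
  | n + 1, p => itr w n (evalWord 10 L0 w p)

/-- a point in a cycle of length `r` -/
def chk (r : ℕ) (w : List ℕ) (p : ℕ) : Bool :=
  w.all (fun l => Nat.blt l 5) && (Nat.blt p 552 && (!(Nat.beq (evalWord 10 L0 w p) p) && Nat.beq (itr w r p) p))

theorem itr_spec {w : List ℕ} (hw : w.all (fun l => Nat.blt l 5) = true) (n : ℕ) (i : Fin 552) :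
    (((ψ (V w)) ^ n) i : ℕ) = itr w n i := by
  induction n generalizing i with
  | zero => rfl
  | succ n ih =>
    rw [pow_succ, Equiv.Perm.mul_apply, ih, itr]
    congr 1
    exact ev hw i

theorem dvd_of_chk {r : ℕ} (hr : r.Prime) {w : List ℕ} {p : ℕ} (h : chk r w p = true) : r ∣ orderOf (V w) := by
  unfold chk at h
  rw [Bool.and_eq_true, Bool.and_eq_true, Bool.and_eq_true, Bool.not_eq_true', ← Bool.not_eq_true, Nat.beq_eq, Nat.beq_eq,
    Nat.blt_eq] at h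
  obtain ⟨h1, h2, h3, h4⟩ := h
  refine dvd_of_cycle ψ hr (p := ⟨p, h2⟩) (Fin.ext ?_) fun h5 => h3 ?_
  · rw [itr_spec h1]
    exact h4
  · rw [← ev h1 ⟨p, h2⟩]
    exact congrArg Fin.val h5

theorem ne_one_of_chk {r : ℕ} (hr : r.Prime) {w : List ℕ} {p : ℕ} (h : chk r w p = true) : V w ≠ 1 := by
  intro h1
  have h2 := dvd_of_chk hr h
  rw [h1, orderOf_one] at h2
  exact hr.one_lt.ne' (Nat.dvd_one.1 h2)

theorem order_of_chk {r : ℕ} (hr : r.Prime) {w : List ℕ} {p : ℕ} (h : chk r w p = true) (h1 : chk1 (rp r w) = true) :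
    orderOf (V w) = r := by
  have : Fact r.Prime := ⟨hr⟩
  refine orderOf_eq_prime ?_ (ne_one_of_chk hr h)
  rw [← V_rp]
  exact V_one h1

/-! ### two conjugates -/

theorem cg_word {r k l : ℕ} (hr : r.Prime) (h : GenI G3 k r) (hl : 2 * k ≤ l) {a g : List ℕ} {p : ℕ}
    (hc : chk r (a ++ (g ++ (a ++ wi g))) p = true) : CG l (V a) := by
  refine CG_of_order (g := V g) (z := V (a ++ (g ++ (a ++ wi g)))) ?_ (dvd_of_chk hr hc) h hl
  rw [V_append, V_append, V_append, V_wi]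
  have h1 : V a ∈ closure ({V a, V g * V a * (V g)⁻¹} : Set G3) := subset_closure (by simp)
  have h2 : V g * V a * (V g)⁻¹ ∈ closure ({V a, V g * V a * (V g)⁻¹} : Set G3) := subset_closure (by simp)
  have h3 := mul_mem h1 h2
  rwa [mul_assoc (V g)] at h3

/-! ### generating pairs -/

/-- syllables `x`, `y`, `y²`, `y⁻²`, `y⁻¹` -/
def sy (x y : List ℕ) : ℕ → List ℕ
  | 0 => x
  | 1 => y
  | 2 => y ++ y
  | 3 => wi y ++ wi y
  | _ => wi y

/-- the word with given syllables -/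
def ex (x y : List ℕ) : List ℕ → List ℕ
  | [] => []
  | n :: l => sy x y n ++ ex x y l

theorem sy_mem (x y : List ℕ) (n : ℕ) : V (sy x y n) ∈ closure ({V x, V y} : Set G3) := by
  have hx : V x ∈ closure ({V x, V y} : Set G3) := subset_closure (by simp)
  have hy : V y ∈ closure ({V x, V y} : Set G3) := subset_closure (by simp)
  unfold sy
  split
  · exact hx
  · exact hy
  · rw [V_append]; exact mul_mem hy hy
  · rw [V_append, V_wi]; exact mul_mem (inv_mem hy) (inv_mem hy)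
  · rw [V_wi]; exact inv_mem hy

theorem ex_mem (x y l : List ℕ) : V (ex x y l) ∈ closure ({V x, V y} : Set G3) := by
  induction l with
  | nil => exact one_mem _
  | cons n l ih =>
    rw [ex, V_append]
    exact mul_mem (sy_mem x y n) ih

theorem letter_mem {x y : List ℕ} (l : List ℕ) {k : ℕ} (h : chk1 (ex x y l ++ [iv k]) = true) :
    s k ∈ closure ({V x, V y} : Set G3) := by
  have h1 := V_one h
  rw [V_append, V_cons, V_nil, mul_one, s_iv, mul_inv_eq_one] at h1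
  rw [← h1]
  exact ex_mem x y l

theorem top_of {x y : List ℕ} (h2 : gd ∈ closure ({V x, V y} : Set G3)) (h0 : gx ∈ closure ({V x, V y} : Set G3)) :
    closure ({V x, V y} : Set G3) = ⊤ := by
  rw [eq_top_iff, ← gen, closure_le]
  rintro z (rfl | hz)
  · exact h2
  · rw [Set.mem_singleton_iff] at hz
    rw [hz]; exact h0

/-- an element of order 5 -/
def y1 : List ℕ := [1, 2, 3, 2, 3, 2, 0]
/-- an involution of the first class -/
def x2 : List ℕ := [3, 2, 3, 2, 3, 2, 3, 2, 3, 2, 3, 2]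
/-- an element of order 5 -/
def y2 : List ℕ := [0, 2, 0, 2, 4, 0, 2, 0, 2, 4]

theorem V_two : V [2] = gd := by
  rw [V_cons, V_nil, mul_one]; rfl

theorem top1 : closure ({V [2], V y1} : Set G3) = ⊤ := by
  refine top_of ?_ ?_
  · rw [← V_two]
    exact subset_closure (by simp)
  · exact letter_mem (k := 0) [3, 0, 4, 0, 1, 0, 2, 0, 4, 0, 4, 0, 1, 0, 2, 0, 4, 0, 3, 0, 4, 0, 3, 0, 2, 0, 2, 0, 2, 0, 1, 0,
      1, 0, 1, 0, 4, 0, 4, 0] (by decide +kernel)

theorem top2 : closure ({V x2, V y2} : Set G3) = ⊤ := by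
  refine top_of ?_ ?_
  · exact letter_mem (k := 2) [0, 4, 0, 3, 0, 1, 0, 4, 0, 4, 0, 4, 0, 2, 0, 1, 0, 1, 0, 1, 0, 4, 0, 1, 0, 1, 0, 2, 0, 4, 0, 2,
      0, 4] (by decide +kernel)
  · exact letter_mem (k := 0) [0, 3, 0, 1, 0, 4, 0, 4, 0, 4, 0, 3, 0, 4, 0, 2, 0, 1, 0, 4, 0, 1, 0, 2, 0, 1, 0, 4, 0, 4, 0, 1,
      0, 3, 0, 1, 0, 4] (by decide +kernel)

/-! ### the primes 23, 11, 7 -/

theorem gx_eq : V [0] = gx := by
  rw [V_cons, V_nil, mul_one]; rfl

theorem gen23 : GenI G3 2 23 := by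
  refine GenI_of_rep (by norm_num) (by rw [card_G3]; norm_num) orderOf_gx ?_
  refine cg_two (fun h => ?_) (by rw [pow_two, gd_mul_gd]) gen (subset_closure (by simp))
  have h1 := orderOf_gx
  rw [h, orderOf_one] at h1
  exact absurd h1 (by norm_num)

theorem gen11 : GenI G3 4 11 := by
  have h1 : orderOf (V [1]) = 11 := order_of_chk (p := 0) (by norm_num) (by decide +kernel) (by decide +kernel)
  exact GenI_of_rep (by norm_num) (by rw [card_G3]; norm_num) h1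
    (cg_word (r := 23) (g := [0, 1, 0, 2, 0]) (p := 0) (by norm_num) gen23 (by norm_num) (by decide +kernel))

theorem gen7 : GenI G3 4 7 := by
  have h1 : orderOf (V [0, 1, 2, 0, 2]) = 7 := order_of_chk (p := 0) (by norm_num) (by decide +kernel) (by decide +kernel)
  exact GenI_of_rep (by norm_num) (by rw [card_G3]; norm_num) h1
    (cg_word (r := 23) (g := [0, 0, 2]) (p := 0) (by norm_num) gen23 (by norm_num) (by decide +kernel))

/-! ### the prime 2 -/

theorem y1_pow : V y1 ^ 5 = 1 := by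
  rw [← V_rp]
  exact V_one (by decide +kernel)

theorem y2_pow : V y2 ^ 5 = 1 := by
  rw [← V_rp]
  exact V_one (by decide +kernel)

theorem x2_sq : V x2 * V x2 = 1 := by
  rw [← V_append]
  exact V_one (by decide +kernel)

theorem x2_ne : V x2 ≠ 1 := by
  intro h
  have h1 := ev (w := x2) (by decide) 0
  have h2 : ψ (V x2) = 1 := by rw [h, map_one]
  change ((ψ (V x2) 0 : Fin 552) : ℕ) = _ at h1
  rw [h2] at h1
  exact absurd h1 (by decide +kernel)

theorem cg_gd : CG 5 gd := by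
  have h := CG.of_orbit (x := V [2]) (y := V y1) (n := 5) (by rw [V_two]; exact gd_ne_one) (by norm_num) y1_pow top1
  rwa [V_two] at h

theorem cg_x2 : CG 5 (V x2) := CG.of_orbit x2_ne (by norm_num) y2_pow top2

theorem gd_free : allBelow (fun i => !(Nat.beq (evalWord 10 L0 [2] i) i)) 552 = true := by decide +kernel

theorem not_conj : ¬ IsConj gd (V x2) := by
  intro h
  obtain ⟨b, hb⟩ := isConj_iff.1 h
  have h1 : ψ (V x2) 1 = 1 := Fin.ext ((ev (w := x2) (by decide) 1).trans (by decide +kernel))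
  have h2 : ψ gd (ψ b⁻¹ 1) = ψ b⁻¹ 1 := by
    have e : gd * b⁻¹ = b⁻¹ * V x2 := by rw [← hb]; group
    rw [← Equiv.Perm.mul_apply, ← map_mul, e, map_mul, Equiv.Perm.mul_apply, h1]
  have h3 := allBelow_spec _ _ gd_free (ψ b⁻¹ 1) (ψ b⁻¹ 1).2
  rw [Bool.not_eq_true', ← Bool.not_eq_true, Nat.beq_eq] at h3
  apply h3
  have h4 := ev (w := [2]) (by decide) (ψ b⁻¹ 1)
  rw [← h4]
  have h5 : val s [2] = gd := V_two
  rw [h5, h2]

/-- the involutions of `Co3` -/
theorem two_classes : ∃ z w : G3, ∀ t : G3, (t * t = 1 ∧ t ≠ 1) → IsConj z t ∨ IsConj w t := by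
  obtain ⟨w, hw2, hw1, hw, -⟩ := Cfsg.Agent.SigZero.CoThree.exists_w
  obtain ⟨g, hg⟩ := S0401.result u0 Spor.leechV sqNorm_u0 Cfsg.Agent.SporRec.Co3.Chain.norm_V
  let e : G3 ≃* Cfsg.Agent.SporRec.Co3.Chain.G3 := MulAction.stabilizerEquivStabilizer hg.symm
  refine ⟨e.symm Cfsg.Agent.SporRec.Co3.Ident.Z, e.symm w, ?_⟩
  rintro t ⟨ht, ht1⟩
  have h1 : e t * e t = 1 := by rw [← map_mul, ht, map_one]
  have h2 : e t ≠ 1 := fun h => ht1 ((map_eq_one_iff e e.injective).1 h)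
  rcases Cfsg.Agent.SigZero.CoThree.classes hw2 hw1 hw h1 h2 with ⟨b, hb⟩ | ⟨b, hb⟩
  · left
    rw [isConj_iff]
    exact ⟨e.symm b, by rw [← map_inv, ← map_mul, ← map_mul, hb, e.symm_apply_apply]⟩
  · right
    rw [isConj_iff]
    exact ⟨e.symm b, by rw [← map_inv, ← map_mul, ← map_mul, hb, e.symm_apply_apply]⟩

theorem gen2 : GenI G3 5 2 := by
  intro g hg
  have h1 : g * g = 1 := by rw [← pow_two, ← hg, pow_orderOf_eq_one]
  have h2 : g ≠ 1 := by
    rintro rfl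
    rw [orderOf_one] at hg
    exact absurd hg (by norm_num)
  obtain ⟨z, w, hzw⟩ := two_classes
  rcases conj_of_two hzw ⟨gd_mul_gd, gd_ne_one⟩ ⟨x2_sq, x2_ne⟩ not_conj ⟨h1, h2⟩ with h | h
  · exact cg_gd.of_isConj h
  · exact cg_x2.of_isConj h

/-! ### the prime 5 -/

/-- words of the generators of a Sylow 5-subgroup -/
def wq : ℕ → List ℕ
  | 0 => [0, 1, 2, 3, 2, 3, 2]
  | 1 => [3, 2, 0, 2, 0, 0, 2, 0, 0, 1, 1, 1, 1, 1, 2, 3, 3, 3, 3, 3, 2, 3, 3, 3, 2, 0, 0, 2, 0, 0, 0, 0, 0]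
  | _ => [3, 3, 3, 3, 2, 0, 0, 2, 3, 3, 3, 3, 3, 3, 3, 2, 0, 1, 1, 2, 0, 0, 0, 2, 3, 2, 3, 3, 3, 3, 2, 3, 3, 3, 3, 3, 2]

/-- generators of a Sylow 5-subgroup -/
noncomputable def q (i : ℕ) : G3 := V (wq i)

theorem q_pow {i : ℕ} (hi : i < 3) : q i ^ 5 = 1 := by
  unfold q
  rw [← V_rp]
  interval_cases i
  · exact V_one (by decide +kernel)
  · exact V_one (by decide +kernel)
  · exact V_one (by decide +kernel)

theorem eq_of {v w : List ℕ} (h : chk1 (v ++ wi w) = true) : V v = V w := by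
  have h1 := V_one h
  rwa [V_append, V_wi, mul_inv_eq_one] at h1

theorem q01 : q 0 * q 1 = q 1 * q 0 * q 2 ^ 3 := by
  unfold q
  rw [← V_rp, ← V_append, ← V_append, ← V_append]
  exact eq_of (by decide +kernel)

theorem q02 : q 0 * q 2 = q 2 * q 0 := by
  unfold q
  rw [← V_append, ← V_append]
  exact eq_of (by decide +kernel)

theorem q12 : q 1 * q 2 = q 2 * q 1 := by
  unfold q
  rw [← V_append, ← V_append]
  exact eq_of (by decide +kernel)

theorem q_ne : q 0 * q 1 ≠ q 1 * q 0 := by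
  intro h
  unfold q at h
  rw [← V_append, ← V_append] at h
  have h1 := ev (w := wq 0 ++ wq 1) (by decide) 0
  have h2 := ev (w := wq 1 ++ wq 0) (by decide) 0
  change ((ψ (V (wq 0 ++ wq 1)) 0 : Fin 552) : ℕ) = _ at h1
  change ((ψ (V (wq 1 ++ wq 0)) 0 : Fin 552) : ℕ) = _ at h2
  rw [h, h2] at h1
  exact absurd h1 (by decide +kernel)

theorem pc5 : Pc 5 3 q where
  pow _ hi := q_pow hi
  rel i j hij hj := by
    have h2 : q 2 ∈ closure (Sk 3 q (i + 1)) := subset_closure ⟨2, by omega, by omega, rfl⟩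
    by_cases hj2 : j = 2
    · subst hj2
      have e : q i * q 2 * (q i)⁻¹ = q 2 := by
        rw [mul_inv_eq_iff_eq_mul]
        interval_cases i
        · exact q02
        · exact q12
      rw [e]
      exact h2
    · obtain ⟨rfl, rfl⟩ : i = 0 ∧ j = 1 := by omega
      have hc : Commute (q 0) (q 2 ^ 3) := (show Commute (q 0) (q 2) from q02).pow_right 3
      have e : q 0 * q 1 * (q 0)⁻¹ = q 1 * q 2 ^ 3 := by
        rw [mul_inv_eq_iff_eq_mul, q01, mul_assoc, mul_assoc, hc.eq]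
      rw [e]
      exact mul_mem (subset_closure ⟨1, by omega, by omega, rfl⟩) (pow_mem h2 3)

theorem card_R : 5 ^ 3 ≤ Nat.card ↥(closure (Sk 3 q 0)) := by
  have : Fact (Nat.Prime 5) := ⟨by norm_num⟩
  have hpg := pc5.isPGroup 3 0 (by norm_num)
  obtain ⟨n, hn⟩ := IsPGroup.iff_card.1 hpg
  rw [hn]
  refine Nat.pow_le_pow_right (by norm_num) ?_
  by_contra hcon
  push Not at hcon
  have h0 : q 0 ∈ closure (Sk 3 q 0) := subset_closure ⟨0, by omega, by omega, rfl⟩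
  have h1 : q 1 ∈ closure (Sk 3 q 0) := subset_closure ⟨1, by omega, by omega, rfl⟩
  have hcomm : ∀ a b : ↥(closure (Sk 3 q 0)), a * b = b * a := by
    have h3 : n = 0 ∨ n = 1 ∨ n = 2 := by omega
    rcases h3 with rfl | rfl | rfl
    · rw [pow_zero] at hn
      intro a b
      have := (Nat.card_eq_one_iff_unique.1 hn).1
      exact Subsingleton.elim _ _
    · have hcyc := isCyclic_of_prime_card (p := 5) (by rw [hn, pow_one])
      let _ := hcyc.commGroup
      exact fun a b => mul_comm a b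
    · let _ := IsPGroup.commGroupOfCardEqPrimeSq (p := 5) hn
      exact fun a b => mul_comm a b
  exact q_ne (congrArg Subtype.val (hcomm ⟨q 0, h0⟩ ⟨q 1, h1⟩))

theorem exists_sylow5 : ∃ S : Sylow 5 G3, (S : Subgroup G3) = closure (Sk 3 q 0) := by
  have : Fact (Nat.Prime 5) := ⟨by norm_num⟩
  have hpg := pc5.isPGroup 3 0 (by norm_num)
  obtain ⟨S, hS⟩ := hpg.exists_le_sylow
  refine ⟨S, ?_⟩
  symm
  refine Subgroup.eq_of_le_of_card_ge hS ?_
  refine le_trans ?_ card_R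
  obtain ⟨m, hm⟩ := IsPGroup.iff_card.mp S.2
  rw [hm]
  refine Nat.pow_le_pow_right (by norm_num) ?_
  by_contra hcon
  push Not at hcon
  have h1 : 5 ^ 4 ∣ Nat.card G3 := (pow_dvd_pow 5 hcon).trans (by rw [← hm]; exact card_subgroup_dvd_card _)
  rw [card_G3] at h1
  norm_num at h1

/-- normal forms -/
noncomputable def nf (x : ℕ × ℕ × ℕ) : G3 := q 0 ^ x.1 * q 1 ^ x.2.1 * q 2 ^ x.2.2

theorem nf_congr (a b c a' b' c' : ℕ) (ha : a % 5 = a' % 5) (hb : b % 5 = b' % 5) (hc : c % 5 = c' % 5) :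
    nf (a, b, c) = nf (a', b', c') := by
  have key : ∀ i, i < 3 → ∀ m n : ℕ, m % 5 = n % 5 → q i ^ m = q i ^ n := fun i hi m n h => by
    rw [← Nat.div_add_mod m 5, ← Nat.div_add_mod n 5, pow_add, pow_add, pow_mul, pow_mul, q_pow hi, one_pow, one_pow, h]
  unfold nf
  rw [key 0 (by norm_num) a a' ha, key 1 (by norm_num) b b' hb, key 2 (by norm_num) c c' hc]

theorem c02 : Commute (q 0) (q 2) := q02
theorem c12 : Commute (q 1) (q 2) := q12

/-- conjugation by `q 0` -/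
theorem nf_conj0 (a b c : ℕ) : q 0 * nf (a, b, c) * (q 0)⁻¹ = nf (a, b, c + 3 * b) := by
  have h1 : q 0 * q 1 * (q 0)⁻¹ = q 1 * q 2 ^ 3 := by
    rw [mul_inv_eq_iff_eq_mul, q01, mul_assoc, mul_assoc, (c02.pow_right 3).eq]
  have h2 : q 0 * q 1 ^ b * (q 0)⁻¹ = q 1 ^ b * q 2 ^ (3 * b) := by
    rw [← conj_pow, h1, (c12.pow_right 3).mul_pow, ← pow_mul]
  have h3 : q 0 * q 2 ^ c * (q 0)⁻¹ = q 2 ^ c := by rw [(c02.pow_right c).eq, mul_inv_cancel_right]
  have e : q 0 * nf (a, b, c) * (q 0)⁻¹ = q 0 ^ a * (q 0 * q 1 ^ b * (q 0)⁻¹) * (q 0 * q 2 ^ c * (q 0)⁻¹) := by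
    show q 0 * (q 0 ^ a * q 1 ^ b * q 2 ^ c) * (q 0)⁻¹ = _
    have h4 : q 0 * q 0 ^ a = q 0 ^ a * q 0 := (Commute.refl (q 0)).pow_right a
    simp only [← mul_assoc, h4]
    group
  rw [e, h2, h3]
  show q 0 ^ a * (q 1 ^ b * q 2 ^ (3 * b)) * q 2 ^ c = q 0 ^ a * q 1 ^ b * q 2 ^ (c + 3 * b)
  rw [add_comm, pow_add]
  simp only [mul_assoc]

/-- conjugation by `q 1` -/
theorem nf_conj1 (a b c : ℕ) : q 1 * nf (a, b, c) * (q 1)⁻¹ = nf (a, b, c + 2 * a) := by
  have h1 : q 1 * q 0 * (q 1)⁻¹ = q 0 * q 2 ^ 2 := by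
    rw [mul_inv_eq_iff_eq_mul, mul_assoc, ← (c12.pow_right 2).eq, ← mul_assoc, q01, mul_assoc, ← pow_add,
      show 3 + 2 = 5 from rfl, q_pow (by norm_num), mul_one]
  have h2 : q 1 * q 0 ^ a * (q 1)⁻¹ = q 0 ^ a * q 2 ^ (2 * a) := by
    rw [← conj_pow, h1, (c02.pow_right 2).mul_pow, ← pow_mul]
  have e : q 1 * nf (a, b, c) * (q 1)⁻¹ = (q 1 * q 0 ^ a * (q 1)⁻¹) * (q 1 * (q 1 ^ b * q 2 ^ c) * (q 1)⁻¹) := by
    show q 1 * (q 0 ^ a * q 1 ^ b * q 2 ^ c) * (q 1)⁻¹ = _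
    group
  have h3 : q 1 * (q 1 ^ b * q 2 ^ c) * (q 1)⁻¹ = q 1 ^ b * q 2 ^ c := by
    rw [((Commute.refl (q 1)).pow_right b |>.mul_right (c12.pow_right c)).eq, mul_inv_cancel_right]
  rw [e, h2, h3]
  show q 0 ^ a * q 2 ^ (2 * a) * (q 1 ^ b * q 2 ^ c) = q 0 ^ a * q 1 ^ b * q 2 ^ (c + 2 * a)
  rw [mul_assoc, ← mul_assoc (q 2 ^ (2 * a)), ← (c12.pow_pow b (2 * a)).eq, add_comm c, pow_add]
  simp only [mul_assoc]

/-- squares -/
theorem nf_sq (a b c : ℕ) : nf (a, b, c) ^ 2 = nf (2 * a, 2 * b, 2 * c + 2 * a * b) := by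
  have h1 : ∀ n : ℕ, q 1 ^ n * q 0 ^ a = q 0 ^ a * q 1 ^ n * q 2 ^ (2 * a * n) := by
    intro n
    have h2 : q 1 * q 0 ^ a * (q 1)⁻¹ = q 0 ^ a * q 2 ^ (2 * a) := by
      have h := nf_conj1 a 0 0
      simpa [nf] using h
    induction n with
    | zero => simp
    | succ n ih =>
      have h3 : q 1 * q 0 ^ a = q 0 ^ a * q 2 ^ (2 * a) * q 1 := mul_inv_eq_iff_eq_mul.1 h2
      calc q 1 ^ (n + 1) * q 0 ^ a = q 1 * (q 1 ^ n * q 0 ^ a) := by rw [pow_succ', mul_assoc]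
        _ = (q 1 * q 0 ^ a) * (q 1 ^ n * q 2 ^ (2 * a * n)) := by rw [ih]; simp only [mul_assoc]
        _ = q 0 ^ a * (q 2 ^ (2 * a) * (q 1 * q 1 ^ n)) * q 2 ^ (2 * a * n) := by rw [h3]; simp only [mul_assoc]
        _ = q 0 ^ a * (q 1 ^ (n + 1) * q 2 ^ (2 * a)) * q 2 ^ (2 * a * n) := by
            rw [← pow_succ', (c12.pow_pow (n + 1) (2 * a)).eq]
        _ = q 0 ^ a * q 1 ^ (n + 1) * (q 2 ^ (2 * a) * q 2 ^ (2 * a * n)) := by simp only [mul_assoc]
        _ = q 0 ^ a * q 1 ^ (n + 1) * q 2 ^ (2 * a * (n + 1)) := by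
            rw [← pow_add]; congr 2; ring
  rw [pow_two]
  show q 0 ^ a * q 1 ^ b * q 2 ^ c * (q 0 ^ a * q 1 ^ b * q 2 ^ c) = q 0 ^ (2 * a) * q 1 ^ (2 * b) * q 2 ^ (2 * c + 2 * a * b)
  calc q 0 ^ a * q 1 ^ b * q 2 ^ c * (q 0 ^ a * q 1 ^ b * q 2 ^ c)
      = q 0 ^ a * q 1 ^ b * (q 2 ^ c * q 0 ^ a) * (q 1 ^ b * q 2 ^ c) := by simp only [mul_assoc]
    _ = q 0 ^ a * (q 1 ^ b * q 0 ^ a) * (q 2 ^ c * q 1 ^ b) * q 2 ^ c := by
        rw [← (c02.pow_pow a c).eq]; simp only [mul_assoc]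
    _ = q 0 ^ a * (q 0 ^ a * q 1 ^ b * q 2 ^ (2 * a * b)) * (q 1 ^ b * q 2 ^ c) * q 2 ^ c := by
        rw [h1, ← (c12.pow_pow b c).eq]
    _ = q 0 ^ a * q 0 ^ a * q 1 ^ b * (q 2 ^ (2 * a * b) * q 1 ^ b) * (q 2 ^ c * q 2 ^ c) := by simp only [mul_assoc]
    _ = q 0 ^ (2 * a) * q 1 ^ (2 * b) * q 2 ^ (2 * c + 2 * a * b) := by
        rw [← (c12.pow_pow b (2 * a * b)).eq, ← pow_add, ← pow_add, two_mul a, two_mul b, pow_add (q 1),
          show 2 * c + (a + a) * b = (a + a) * b + (c + c) by ring, pow_add (q 2) ((a + a) * b)]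
        simp only [mul_assoc]

def fA (x : ℕ × ℕ × ℕ) : ℕ × ℕ × ℕ := (x.1, x.2.1, (x.2.2 + 3 * x.2.1) % 5)
def fB (x : ℕ × ℕ × ℕ) : ℕ × ℕ × ℕ := (x.1, x.2.1, (x.2.2 + 2 * x.1) % 5)
def fC (x : ℕ × ℕ × ℕ) : ℕ × ℕ × ℕ := (2 * x.1 % 5, 2 * x.2.1 % 5, (2 * x.2.2 + 2 * x.1 * x.2.1) % 5)

theorem QA {x : ℕ × ℕ × ℕ} (h : CG 4 (nf (fA x))) : CG 4 (nf x) := by
  obtain ⟨a, b, c⟩ := x
  apply CG.of_conj (q 0)
  rw [nf_conj0, nf_congr a b (c + 3 * b) a b ((c + 3 * b) % 5) rfl rfl (Nat.mod_mod _ _).symm]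
  exact h

theorem QB {x : ℕ × ℕ × ℕ} (h : CG 4 (nf (fB x))) : CG 4 (nf x) := by
  obtain ⟨a, b, c⟩ := x
  apply CG.of_conj (q 1)
  rw [nf_conj1, nf_congr a b (c + 2 * a) a b ((c + 2 * a) % 5) rfl rfl (Nat.mod_mod _ _).symm]
  exact h

theorem QC {x : ℕ × ℕ × ℕ} (h : CG 4 (nf (fC x))) : CG 4 (nf x) := by
  obtain ⟨a, b, c⟩ := x
  apply CG.of_pow (m := 2)
  rw [nf_sq, nf_congr (2 * a) (2 * b) (2 * c + 2 * a * b) (2 * a % 5) (2 * b % 5) ((2 * c + 2 * a * b) % 5)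
    (Nat.mod_mod _ _).symm (Nat.mod_mod _ _).symm (Nat.mod_mod _ _).symm]
  exact h

theorem iter {F : ℕ × ℕ × ℕ → ℕ × ℕ × ℕ} (hF : ∀ x, CG 4 (nf (F x)) → CG 4 (nf x)) (n : ℕ) (x : ℕ × ℕ × ℕ)
    (h : CG 4 (nf (F^[n] x))) : CG 4 (nf x) := by
  induction n generalizing x with
  | zero => exact h
  | succ n ih =>
    rw [Function.iterate_succ_apply] at h
    exact hF x (ih (F x) h)

/-- representatives of the subgroups of order 5 -/
def bs : List (ℕ × ℕ × ℕ) := [(1, 0, 0), (0, 1, 0), (1, 1, 0), (1, 2, 0), (1, 3, 0), (1, 4, 0), (0, 0, 1)]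

/-- a representative can be reached -/
def reach (x : ℕ × ℕ × ℕ) : Bool := (List.range 4).any fun k => (List.range 5).any fun i => (List.range 5).any fun j =>
  bs.contains (fB^[j] (fA^[i] (fC^[k] x)))

theorem orbits_chk : ((List.range 5).all fun a => (List.range 5).all fun b => (List.range 5).all fun c =>
    (Nat.beq a 0 && (Nat.beq b 0 && Nat.beq c 0)) || reach (a, b, c)) = true := by decide +kernel

theorem orbits {a b c : ℕ} (ha : a < 5) (hb : b < 5) (hc : c < 5) : (a = 0 ∧ b = 0 ∧ c = 0) ∨ ∃ k i j : ℕ,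
    fB^[j] (fA^[i] (fC^[k] (a, b, c))) ∈ bs := by
  have h := List.all_eq_true.1 (List.all_eq_true.1 (List.all_eq_true.1 orbits_chk a (List.mem_range.2 ha)) b
    (List.mem_range.2 hb)) c (List.mem_range.2 hc)
  rw [Bool.or_eq_true, Bool.and_eq_true, Bool.and_eq_true, Nat.beq_eq, Nat.beq_eq, Nat.beq_eq] at h
  rcases h with h | h
  · exact Or.inl h
  · right
    unfold reach at h
    simp only [List.any_eq_true, List.contains_iff_mem] at h
    obtain ⟨k, -, i, -, j, -, h⟩ := h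
    exact ⟨k, i, j, h⟩

theorem q1_inv : (q 1)⁻¹ ^ 2 = q 1 ^ 3 := by
  have h : q 1 ^ 2 * q 1 ^ 3 = 1 := by rw [← pow_add]; exact q_pow (by norm_num)
  rw [inv_pow]
  exact inv_eq_of_mul_eq_one_right h

theorem q1_inv' : (q 1)⁻¹ = q 1 ^ 4 := by
  have h : q 1 * q 1 ^ 4 = 1 := by rw [← pow_succ']; exact q_pow (by norm_num)
  exact inv_eq_of_mul_eq_one_right h

theorem base : ∀ x ∈ bs, CG 4 (nf x) := by
  intro x hx
  simp only [bs, List.mem_cons, List.not_mem_nil, or_false] at hx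
  rcases hx with rfl | rfl | rfl | rfl | rfl | rfl | rfl
  · have h := cg_word (r := 23) (k := 2) (l := 4) (a := wq 0) (g := [1, 1, 2]) (p := 0) (by norm_num) gen23 (by norm_num)
      (by decide +kernel)
    have e : nf (1, 0, 0) = V (wq 0) := by simp [nf, q]
    rw [e]; exact h
  · have h := cg_word (r := 23) (k := 2) (l := 4) (a := wq 1) (g := [1, 0]) (p := 0) (by norm_num) gen23 (by norm_num)
      (by decide +kernel)
    have e : nf (0, 1, 0) = V (wq 1) := by simp [nf, q]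
    rw [e]; exact h
  · have h := cg_word (r := 23) (k := 2) (l := 4) (a := wq 0 ++ wq 1) (g := [2, 0]) (p := 0) (by norm_num) gen23 (by norm_num)
      (by decide +kernel)
    have e : nf (1, 1, 0) = V (wq 0 ++ wq 1) := by rw [V_append]; simp [nf, q]
    rw [e]; exact h
  · have h := cg_word (r := 23) (k := 2) (l := 4) (a := wq 0 ++ rp 2 (wq 1)) (g := [2]) (p := 0) (by norm_num) gen23
      (by norm_num) (by decide +kernel)
    have e : nf (1, 2, 0) = V (wq 0 ++ rp 2 (wq 1)) := by rw [V_append, V_rp]; simp [nf, q]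
    rw [e]; exact h
  · have h := cg_word (r := 23) (k := 2) (l := 4) (a := wq 0 ++ rp 2 (wi (wq 1))) (g := [0]) (p := 0) (by norm_num) gen23
      (by norm_num) (by decide +kernel)
    have e : nf (1, 3, 0) = V (wq 0 ++ rp 2 (wi (wq 1))) := by
      rw [V_append, V_rp, V_wi]
      show q 0 ^ 1 * q 1 ^ 3 * q 2 ^ 0 = q 0 * (q 1)⁻¹ ^ 2
      rw [q1_inv, pow_one, pow_zero, mul_one]
    rw [e]; exact h
  · have h := cg_word (r := 23) (k := 2) (l := 4) (a := wq 0 ++ wi (wq 1)) (g := [0]) (p := 0) (by norm_num) gen23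
      (by norm_num) (by decide +kernel)
    have e : nf (1, 4, 0) = V (wq 0 ++ wi (wq 1)) := by
      rw [V_append, V_wi]
      show q 0 ^ 1 * q 1 ^ 4 * q 2 ^ 0 = q 0 * (q 1)⁻¹
      rw [q1_inv', pow_one, pow_zero, mul_one]
    rw [e]; exact h
  · have h := cg_word (r := 23) (k := 2) (l := 4) (a := wq 2) (g := [0, 1]) (p := 0) (by norm_num) gen23 (by norm_num)
      (by decide +kernel)
    have e : nf (0, 0, 1) = V (wq 2) := by simp [nf, q]
    rw [e]; exact h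

theorem cg_nf {a b c : ℕ} (ha : a < 5) (hb : b < 5) (hc : c < 5) (h : ¬ (a = 0 ∧ b = 0 ∧ c = 0)) : CG 4 (nf (a, b, c)) := by
  rcases orbits ha hb hc with h1 | ⟨k, i, j, h1⟩
  · exact absurd h1 h
  · exact iter (fun _ => QC) k _ (iter (fun _ => QA) i _ (iter (fun _ => QB) j _ (base _ h1)))

theorem gen5 : GenI G3 4 5 := by
  have : Fact (Nat.Prime 5) := ⟨by norm_num⟩
  obtain ⟨S, hS⟩ := exists_sylow5
  refine GenI_of_pc pc5 S hS fun N _ hne => ?_
  have e : ((nfw 5 3 0 N).map q).prod = nf (N % 5, N / 5 % 5, N / 5 / 5 % 5) := by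
    simp [nfw, nf, mul_assoc]
  rw [e] at hne ⊢
  refine cg_nf (Nat.mod_lt _ (by norm_num)) (Nat.mod_lt _ (by norm_num)) (Nat.mod_lt _ (by norm_num)) fun ⟨h1, h2, h3⟩ => ?_
  apply hne
  rw [h1, h2, h3]
  simp [nf]

/-! ### the row -/

theorem primes {p : ℕ} (hp : p.Prime) (hd : p ∣ Nat.card G3) : p = 2 ∨ p = 3 ∨ p = 5 ∨ p = 7 ∨ p = 11 ∨ p = 23 := by
  rw [card_G3, show (495766656000 : ℕ) = 2 ^ 10 * (3 ^ 7 * (5 ^ 3 * (7 * (11 * 23)))) by norm_num] at hd
  have key : ∀ {q : ℕ}, q.Prime → p ∣ q → p = q := fun hq h => (Nat.prime_dvd_prime_iff_eq hp hq).1 h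
  rcases (Nat.Prime.dvd_mul hp).1 hd with h | hd
  · exact Or.inl (key (by norm_num) (hp.dvd_of_dvd_pow h))
  rcases (Nat.Prime.dvd_mul hp).1 hd with h | hd
  · exact Or.inr (Or.inl (key (by norm_num) (hp.dvd_of_dvd_pow h)))
  rcases (Nat.Prime.dvd_mul hp).1 hd with h | hd
  · exact Or.inr (Or.inr (Or.inl (key (by norm_num) (hp.dvd_of_dvd_pow h))))
  rcases (Nat.Prime.dvd_mul hp).1 hd with h | hd
  · exact Or.inr (Or.inr (Or.inr (Or.inl (key (by norm_num) h))))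
  rcases (Nat.Prime.dvd_mul hp).1 hd with h | h
  · exact Or.inr (Or.inr (Or.inr (Or.inr (Or.inl (key (by norm_num) h)))))
  · exact Or.inr (Or.inr (Or.inr (Or.inr (Or.inr (key (by norm_num) h)))))

theorem gen_ne_three {p : ℕ} (hp : p.Prime) (h3 : p ≠ 3) : GenI G3 5 p := by
  by_cases hd : p ∣ Nat.card G3
  · rcases primes hp hd with rfl | rfl | rfl | rfl | rfl | rfl
    · exact gen2
    · exact absurd rfl h3
    · exact gen5.mono (by norm_num)
    · exact gen7.mono (by norm_num)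
    · exact gen11.mono (by norm_num)
    · exact gen23.mono (by norm_num)
  · intro g hg
    exact absurd (hg ▸ orderOf_dvd_natCard g) hd

theorem not_pGroup : ¬ IsPGroup 3 G3 := by
  intro h
  have : Fact (Nat.Prime 3) := ⟨Nat.prime_three⟩
  obtain ⟨n, hn⟩ := IsPGroup.iff_card.1 h
  rw [card_G3] at hn
  have h1 : 2 ∣ 3 ^ n := by rw [← hn]; norm_num
  have h2 := Nat.prime_two.dvd_of_dvd_pow h1
  omega

/-- the elements of prime order -/
theorem genI_model {p : ℕ} (hp : p.Prime) : GenI G3 11 p := by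
  by_cases h3 : p = 3
  · subst h3
    exact GenI_of_baer hp not_pGroup (fun q hq hq3 => gen_ne_three hq hq3) (by norm_num)
  · exact (gen_ne_three hp h3).mono (by norm_num)

theorem genI_co3 {K : Type u} [Group K] (h : Cfsg.Spor.IsoCo3 K) {p : ℕ} (hp : p.Prime) : GenI K 11 p := by
  obtain ⟨e⟩ := h
  obtain ⟨e'⟩ := isoCo3_G3
  exact (genI_model hp).congr (e'.trans e.symm)

/-- **the row `Co3` of S4327** -/
theorem gen_co3 {K : Type u} [Group K] (hc : center K = ⊥)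
    (hin : ∀ x : MulAut K, x ∈ (MulAut.conj : K →* MulAut K).range) (h : Cfsg.Spor.IsoCo3 K) : Gen11 K :=
  gen11_of_inner hc (fun _ hp => genI_co3 h hp) hin

end Cfsg.Agent.H867.Gen.CoThree
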