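import Cfsg.Agent.H867.SprFi22
import Cfsg.Agent.H867.Gen.Comm
import Cfsg.Agent.R08.AutT
import Cfsg.Agent.H713.Spor.Fi22

/-!
# S4327, row `Fi22` (helper867)

`x ≠ 1` an automorphism, `t` a transposition with `x t ≠ t`; then `b = x t t⁻¹` is a product of two transpositions, hence conjugate
to `a c` or to `a b` (rank 3), and five conjugates of `b` generate `Fi22`.

* `top_of_order` : a subgroup containing an element `u` of order 22 and an element not commuting with `u ^ 11` is the whole group;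
* `gen_fi22` : `Gen11`.
-/

set_option autoImplicit false
set_option maxRecDepth 100000
set_option exponentiation.threshold 5000
set_option linter.constructorNameAsVariable false

namespace Cfsg.Agent.H867.Gen.FiTwentyTwo

open Subgroup Cfsg.Spor Cfsg.Spor.Fi22 Cfsg.Agent.Lib.PermNet Cfsg.Agent.Lib.PermNetOrbit Cfsg.Agent.Lib.PermNetFix
open Cfsg.Agent.Fischer Cfsg.Agent.Fischer.Fi22PtsRep
open Cfsg.Agent.H834 Cfsg.Agent.H834.AC Cfsg.Agent.H867.SprFi22 Cfsg.Agent.H147.Gen Cfsg.Agent.H867.Gen.Comm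

universe u

/-- an element of order 22 in the group generated by `bd`, `cf`, `ei`, `ah`, `ag` -/
def w2 : List Gen := [.e, .i, .c, .f, .a, .h, .b, .d, .e, .i, .a, .h, .b, .d, .e, .i, .a, .h, .c, .f, .b, .d, .a, .g]

/-- an element of order 22 in the group generated by `ab`, `cd`, `fg`, `hi`, `de` -/
def w3 : List Gen := [.b, .a, .c, .d, .e, .d, .h, .i, .f, .g, .d, .e, .h, .i, .c, .d, .i, .h, .c, .d]

/-- checks for an element of order 22 and an element not commuting with its 11th power -/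
noncomputable def chk (w v : List Gen) (p q : ℕ) : Bool :=
  and (eqB (rep 22 w) []) (and (!(Nat.beq (ptWord (nw (rep 2 w)) q) q))
    (!(Nat.beq (ptWord (nw (v ++ rep 11 w)) p) (ptWord (nw (rep 11 w ++ v)) p))))

theorem chk_w2 : chk w2 [.a, .h] 0 0 = true := by decide +kernel
theorem chk_w3 : chk w3 [.a, .b] 0 0 = true := by decide +kernel

section

variable {G : Type*} [Group G] {D : Set G} (m : Model G D)

theorem chk_spec {w v : List Gen} {p q : ℕ} (h : chk w v p q = true) :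
    orderOf (m.wd w) = 22 ∧ m.wd v * m.wd w ^ 11 ≠ m.wd w ^ 11 * m.wd v := by
  unfold chk at h
  rw [Bool.and_eq_true, Bool.and_eq_true, Bool.not_eq_true', Bool.not_eq_true', ← Bool.not_eq_true, ← Bool.not_eq_true,
    Nat.beq_eq, Nat.beq_eq, ← m.φ_wd_apply, ← m.φ_wd_apply, ← m.φ_wd_apply, m.wd_append, m.wd_append, m.wd_rep, m.wd_rep] at h
  obtain ⟨h1, h2, h3⟩ := h
  have h4 : m.wd v * m.wd w ^ 11 ≠ m.wd w ^ 11 * m.wd v := fun h5 => h3 (by rw [h5])
  refine ⟨?_, h4⟩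
  have h5 := m.eq_of_eqB h1
  rw [m.wd_rep, m.wd_nil] at h5
  have h6 : orderOf (m.wd w) ∣ 22 := orderOf_dvd_of_pow_eq_one h5
  have h7 : ¬ orderOf (m.wd w) ∣ 2 := by
    intro h8
    rw [orderOf_dvd_iff_pow_eq_one] at h8
    exact h2 (by rw [h8, map_one, Equiv.Perm.one_apply])
  have h8 : ¬ orderOf (m.wd w) ∣ 11 := by
    intro h8
    rw [orderOf_dvd_iff_pow_eq_one] at h8
    exact h4 (by rw [h8, mul_one, one_mul])
  have h9 : orderOf (m.wd w) ∈ Nat.divisors 22 := Nat.mem_divisors.2 ⟨h6, by norm_num⟩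
  have h10 : Nat.divisors 22 = {1, 2, 11, 22} := by decide
  rw [h10] at h9
  simp only [Finset.mem_insert, Finset.mem_singleton] at h9
  rcases h9 with h | h | h | h
  · exact absurd (h ▸ one_dvd _) h7
  · exact absurd (h ▸ dvd_rfl) h7
  · exact absurd (h ▸ dvd_rfl) h8
  · exact h

theorem order_s : orderOf (m.wd sw) = 22 := by
  have h0 : m.t p0 * m.t p0 = 1 := m.t_sq p0_lt
  have h1 : m.wd sw ^ 22 = 1 := by
    rw [show 22 = 11 + 11 from rfl, pow_add, ← z_eq, h0]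
  have h2 : m.wd sw ^ 11 ≠ 1 := by rw [← z_eq]; exact m.t_ne_one p0_lt
  have h3 : m.wd sw ^ 2 ≠ 1 := by
    intro h
    have h4 : m.φ (m.wd (rep 2 sw)) 0 = 0 := by rw [m.wd_rep, h, map_one, Equiv.Perm.one_apply]
    rw [m.φ_wd_apply] at h4
    revert h4
    exact Nat.ne_of_beq_eq_false (by decide +kernel)
  have h6 : orderOf (m.wd sw) ∣ 22 := orderOf_dvd_of_pow_eq_one h1
  have h7 : ¬ orderOf (m.wd sw) ∣ 2 := fun h => h3 (orderOf_dvd_iff_pow_eq_one.1 h)
  have h8 : ¬ orderOf (m.wd sw) ∣ 11 := fun h => h2 (orderOf_dvd_iff_pow_eq_one.1 h)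
  have h9 : orderOf (m.wd sw) ∈ Nat.divisors 22 := Nat.mem_divisors.2 ⟨h6, by norm_num⟩
  have h10 : Nat.divisors 22 = {1, 2, 11, 22} := by decide
  rw [h10] at h9
  simp only [Finset.mem_insert, Finset.mem_singleton] at h9
  rcases h9 with h | h | h | h
  · exact absurd (h ▸ one_dvd _) h7
  · exact absurd (h ▸ dvd_rfl) h7
  · exact absurd (h ▸ dvd_rfl) h8
  · exact h

end

/-- subgroups of order 11 are conjugate -/
theorem conj_eleven {X : Type*} [Group X] [Finite X] (h11 : 11 ∣ Nat.card X) (h121 : ¬ 11 * 11 ∣ Nat.card X) {a b : X}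
    (ha : orderOf a = 11) (hb : orderOf b = 11) : ∃ g : X, g * a * g⁻¹ ∈ zpowers b := by
  have : Fact (Nat.Prime 11) := ⟨by norm_num⟩
  have hc : ∀ y : X, orderOf y = 11 → Nat.card (zpowers y) = 11 ^ (Nat.card X).factorization 11 := by
    intro y hy
    have h1 : (Nat.card X).factorization 11 = 1 := by
      have h2 : 1 ≤ (Nat.card X).factorization 11 :=
        (Nat.Prime.pow_dvd_iff_le_factorization (by norm_num) Nat.card_pos.ne').1 (by rwa [pow_one])
      have h3 : ¬ 2 ≤ (Nat.card X).factorization 11 := by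
        rw [← Nat.Prime.pow_dvd_iff_le_factorization (by norm_num) Nat.card_pos.ne']
        exact h121
      omega
    rw [h1, pow_one, Nat.card_zpowers, hy]
  obtain ⟨g, hg⟩ := MulAction.exists_smul_eq X (Sylow.ofCard (zpowers a) (hc a ha)) (Sylow.ofCard (zpowers b) (hc b hb))
  refine ⟨g, ?_⟩
  have h1 : g * a * g⁻¹ ∈ (g • Sylow.ofCard (zpowers a) (hc a ha) : Sylow 11 X) := by
    show g * a * g⁻¹ ∈ ((g • Sylow.ofCard (zpowers a) (hc a ha) : Sylow 11 X) : Subgroup X)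
    rw [Sylow.coe_subgroup_smul]
    exact ⟨a, mem_zpowers a, rfl⟩
  rw [hg] at h1
  exact h1

/-- **A subgroup containing an element of order 22.** -/
theorem top_of_order {K : Subgroup Cfsg.Spor.Fi22} {u v : Cfsg.Spor.Fi22} (hu : u ∈ K) (hv : v ∈ K)
    (ho : orderOf u = 22) (hc : v * u ^ 11 ≠ u ^ 11 * v) : K = ⊤ := by
  have hfin : Finite Cfsg.Spor.Fi22 := mdl.finite
  have hcard := mdl.card
  have hs := order_s mdl
  have hs2 : orderOf (mdl.wd sw ^ 2) = 11 := by rw [orderOf_pow, hs]; norm_num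
  have hu2 : orderOf (u ^ 2) = 11 := by rw [orderOf_pow, ho]; norm_num
  obtain ⟨g, hg⟩ := conj_eleven (by rw [hcard]; norm_num) (by rw [hcard]; norm_num) hs2 hu2
  -- `g s g⁻¹` is in `⟨u⟩`
  have h1 : zpowers u = centralizer ({u ^ 2} : Set Cfsg.Spor.Fi22) := by
    apply Subgroup.eq_of_le_of_card_ge
    · rw [zpowers_le, mem_centralizer_singleton_iff]
      exact ((Commute.refl u).pow_right 2).eq
    · rw [H713.Spor.Fi22.cent_11 (MulEquiv.refl _) hu2, Nat.card_zpowers, ho]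
  have h2 : g * mdl.wd sw * g⁻¹ ∈ zpowers u := by
    rw [h1, mem_centralizer_singleton_iff]
    have h3 : g * mdl.wd sw ^ 2 * g⁻¹ = (g * mdl.wd sw * g⁻¹) ^ 2 := by rw [conj_pow]
    rw [h3] at hg
    -- `u ^ 2` is a power of `(g s g⁻¹) ^ 2`
    have h4 : zpowers ((g * mdl.wd sw * g⁻¹) ^ 2) = zpowers (u ^ 2) := by
      apply Subgroup.eq_of_le_of_card_ge
      · rw [zpowers_le]; exact hg
      · rw [Nat.card_zpowers, Nat.card_zpowers, hu2, ← h3]
        have : orderOf (g * mdl.wd sw ^ 2 * g⁻¹) = orderOf (mdl.wd sw ^ 2) := by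
          have := MulEquiv.orderOf_eq (MulAut.conj g) (mdl.wd sw ^ 2)
          rwa [MulAut.conj_apply] at this
        rw [this, hs2]
    have h5 : u ^ 2 ∈ zpowers ((g * mdl.wd sw * g⁻¹) ^ 2) := by rw [h4]; exact mem_zpowers _
    obtain ⟨i, hi⟩ := mem_zpowers_iff.1 h5
    rw [← hi]
    exact (((Commute.refl (g * mdl.wd sw * g⁻¹)).pow_right 2).zpow_right i).eq
  have hord : orderOf (g * mdl.wd sw * g⁻¹) = 22 := by
    have := MulEquiv.orderOf_eq (MulAut.conj g) (mdl.wd sw)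
    rw [MulAut.conj_apply] at this
    rw [this, hs]
  -- the involutions agree
  have h6 : (g * mdl.wd sw * g⁻¹) ^ 11 = u ^ 11 := by
    obtain ⟨i, hi⟩ := mem_zpowers_iff.1 h2
    have h7 : u ^ 22 = 1 := by rw [← ho]; exact pow_orderOf_eq_one u
    have h8 : (g * mdl.wd sw * g⁻¹) ^ 11 ≠ 1 := by
      intro h
      have := orderOf_dvd_of_pow_eq_one h
      rw [hord] at this
      norm_num at this
    rw [← hi, ← zpow_natCast, ← zpow_mul, mul_comm, zpow_mul, zpow_natCast] at h8 ⊢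
    have h9 : (u ^ 11) ^ (2 : ℤ) = 1 := by
      rw [← zpow_natCast, ← zpow_mul]
      have : ((11 : ℕ) : ℤ) * 2 = ((22 : ℕ) : ℤ) := by norm_num
      rw [this, zpow_natCast, h7]
    rcases Int.even_or_odd i with ⟨j, hj⟩ | ⟨j, hj⟩
    · exfalso
      apply h8
      rw [hj, ← two_mul, zpow_mul, h9, one_zpow]
    · rw [hj, zpow_add, zpow_mul, h9, one_zpow, one_mul, zpow_one]
  by_contra hK
  have h10 : K.map (MulAut.conj g⁻¹).toMonoidHom ≤ centralizer ({mdl.t p0} : Set Cfsg.Spor.Fi22) := by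
    apply le_cent mdl
    · refine ⟨g * mdl.wd sw * g⁻¹, ?_, ?_⟩
      · exact (zpowers_le.2 hu) h2
      · show MulAut.conj g⁻¹ (g * mdl.wd sw * g⁻¹) = mdl.wd sw
        rw [MulAut.conj_apply]; group
    · intro h
      apply hK
      rw [eq_top_iff]
      intro y _
      have h11 : g⁻¹ * y * g⁻¹⁻¹ ∈ K.map (MulAut.conj g⁻¹).toMonoidHom := by rw [h]; trivial
      obtain ⟨z, hz, hzy⟩ := h11
      have h12 : MulAut.conj g⁻¹ z = MulAut.conj g⁻¹ y := by
        rw [MulAut.conj_apply g⁻¹ y]; exact hzy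
      rw [← (MulAut.conj g⁻¹).injective h12]
      exact hz
  have h11 : MulAut.conj g⁻¹ v ∈ K.map (MulAut.conj g⁻¹).toMonoidHom := ⟨v, hv, rfl⟩
  have h12 := mem_centralizer_singleton_iff.1 (h10 h11)
  rw [z_eq, MulAut.conj_apply, inv_inv] at h12
  apply hc
  rw [← h6, conj_pow]
  calc v * (g * mdl.wd sw ^ 11 * g⁻¹) = g * (g⁻¹ * v * g * mdl.wd sw ^ 11) * g⁻¹ := by group
    _ = g * (mdl.wd sw ^ 11 * (g⁻¹ * v * g)) * g⁻¹ := by rw [h12]
    _ = g * mdl.wd sw ^ 11 * g⁻¹ * v := by group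

/-- the transpositions -/
abbrev T : Set Cfsg.Spor.Fi22 := Cfsg.Agent.R01.Fi22Facts.T

theorem wd_pair (x y : Gen) : mdl.wd [x, y] = gen x * gen y := by
  rw [mdl.wd_cons, mdl.wd_single, mdl.wd_single]; rfl

theorem T_ne_one {t : Cfsg.Spor.Fi22} (ht : t ∈ T) : t * t = 1 := by
  obtain ⟨c, rfl⟩ := isConj_iff.1 (show IsConj _ _ from ht)
  calc c * gen .a * c⁻¹ * (c * gen .a * c⁻¹) = c * (gen .a * gen .a) * c⁻¹ := by group
    _ = 1 := by rw [gen_sq]; group

theorem gen_ne {x y : Gen} {p : ℕ} (h : Nat.beq (ptWord (nw [x]) p) (ptWord (nw [y]) p) = false) : gen x ≠ gen y := by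
  intro h1
  have h2 : mdl.wd [x] = mdl.wd [y] := by rw [mdl.wd_single, mdl.wd_single, h1]
  have h3 : mdl.φ (mdl.wd [x]) p = mdl.φ (mdl.wd [y]) p := by rw [h2]
  rw [mdl.φ_wd_apply, mdl.φ_wd_apply] at h3
  exact Nat.ne_of_beq_eq_false h h3

/-- words with two more letters -/
theorem mem2 {J : Subgroup Cfsg.Spor.Fi22} {x y : Gen} {w : List Gen} (h : mdl.wd [x, y] ∈ J) (hw : mdl.wd w ∈ J) :
    mdl.wd (x :: y :: w) ∈ J := by
  have h1 : mdl.wd (x :: y :: w) = mdl.wd [x, y] * mdl.wd w := by rw [← mdl.wd_append]; rfl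
  rw [h1]
  exact J.mul_mem h hw

theorem mem2' {J : Subgroup Cfsg.Spor.Fi22} {x y : Gen} (h : mdl.wd [x, y] ∈ J) : mdl.wd [y, x] ∈ J := by
  have h1 : mdl.wd [y, x] = (mdl.wd [x, y])⁻¹ := by rw [← mdl.wd_reverse]; rfl
  rw [h1]
  exact J.inv_mem h

/-- five conjugates of a product of two commuting transpositions -/
theorem cg_comm {t t' : Cfsg.Spor.Fi22} (ht : t ∈ T) (ht' : t' ∈ T) (hne : t ≠ t') (hc : Commute t t') :
    CG 5 (t * t') := by
  have key : ∀ x y : Gen, coxLabel edges x y = 2 → gen x ≠ gen y →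
      ∃ g : Cfsg.Spor.Fi22, g * (t * t') * g⁻¹ = mdl.wd [x, y] := by
    intro x y hxy hne'
    obtain ⟨g, h1, h2⟩ := Cfsg.Agent.R01.Fi22Facts.trans_commuting t ht t' ht' (gen x)
      (Cfsg.Agent.R01.Fi22Facts.gen_mem x) (gen y) (Cfsg.Agent.R01.Fi22Facts.gen_mem y) hne hne' hc (gen_comm hxy)
    refine ⟨g, ?_⟩
    rw [wd_pair, ← h1, ← h2]; group
  obtain ⟨g1, h1⟩ := key .b .d (by decide) (gen_ne (p := 0) (by decide +kernel))
  obtain ⟨g2, h2⟩ := key .c .f (by decide) (gen_ne (p := 1) (by decide +kernel))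
  obtain ⟨g3, h3⟩ := key .e .i (by decide) (gen_ne (p := 5) (by decide +kernel))
  obtain ⟨g4, h4⟩ := key .a .h (by decide) (gen_ne (p := 1) (by decide +kernel))
  obtain ⟨g5, h5⟩ := key .a .g (by decide) (gen_ne (p := 1) (by decide +kernel))
  refine ⟨![g1, g2, g3, g4, g5], ?_⟩
  set J := closure (Set.range fun i => (![g1, g2, g3, g4, g5] : Fin 5 → Cfsg.Spor.Fi22) i * (t * t') *
    ((![g1, g2, g3, g4, g5] : Fin 5 → Cfsg.Spor.Fi22) i)⁻¹) with hJ
  have bd : mdl.wd [.b, .d] ∈ J := by rw [← h1]; exact subset_closure ⟨0, rfl⟩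
  have cf : mdl.wd [.c, .f] ∈ J := by rw [← h2]; exact subset_closure ⟨1, rfl⟩
  have ei : mdl.wd [.e, .i] ∈ J := by rw [← h3]; exact subset_closure ⟨2, rfl⟩
  have ah : mdl.wd [.a, .h] ∈ J := by rw [← h4]; exact subset_closure ⟨3, rfl⟩
  have ag : mdl.wd [.a, .g] ∈ J := by rw [← h5]; exact subset_closure ⟨4, rfl⟩
  have hw : mdl.wd w2 ∈ J := mem2 ei <| mem2 cf <| mem2 ah <| mem2 bd <| mem2 ei <| mem2 ah <| mem2 bd <| mem2 ei <|
    mem2 ah <| mem2 cf <| mem2 bd ag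
  obtain ⟨h6, h7⟩ := chk_spec mdl chk_w2
  exact top_of_order hw ah h6 h7

/-- five conjugates of a product of two noncommuting transpositions -/
theorem cg_ncomm {t t' : Cfsg.Spor.Fi22} (ht : t ∈ T) (ht' : t' ∈ T) (hc : ¬ Commute t t') : CG 5 (t * t') := by
  have hnc : ∀ x y : Gen, coxLabel edges x y = 3 → gen x ≠ gen y → ¬ Commute (gen x) (gen y) := by
    intro x y hxy hne h
    have h1 := gen_cox x y
    rw [hxy] at h1
    have h2 : (gen x * gen y) ^ 2 = 1 := by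
      rw [h.mul_pow, pow_two, pow_two, gen_sq, gen_sq, one_mul]
    rw [pow_succ, h2, one_mul] at h1
    apply hne
    rw [← gen_inv y]
    exact eq_inv_of_mul_eq_one_left h1
  have key : ∀ x y : Gen, coxLabel edges x y = 3 → gen x ≠ gen y →
      ∃ g : Cfsg.Spor.Fi22, g * (t * t') * g⁻¹ = mdl.wd [x, y] := by
    intro x y hxy hne'
    obtain ⟨g, h1, h2⟩ := Cfsg.Agent.R01.Fi22Facts.trans_noncommuting t ht t' ht' (gen x)
      (Cfsg.Agent.R01.Fi22Facts.gen_mem x) (gen y) (Cfsg.Agent.R01.Fi22Facts.gen_mem y) hc (hnc x y hxy hne')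
    refine ⟨g, ?_⟩
    rw [wd_pair, ← h1, ← h2]; group
  obtain ⟨g1, h1⟩ := key .a .b (by decide) (gen_ne (p := 0) (by decide +kernel))
  obtain ⟨g2, h2⟩ := key .c .d (by decide) (gen_ne (p := 1) (by decide +kernel))
  obtain ⟨g3, h3⟩ := key .f .g (by decide) (gen_ne (p := 8) (by decide +kernel))
  obtain ⟨g4, h4⟩ := key .h .i (by decide) (gen_ne (p := 5) (by decide +kernel))
  obtain ⟨g5, h5⟩ := key .d .e (by decide) (gen_ne (p := 3) (by decide +kernel))
  refine ⟨![g1, g2, g3, g4, g5], ?_⟩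
  set J := closure (Set.range fun i => (![g1, g2, g3, g4, g5] : Fin 5 → Cfsg.Spor.Fi22) i * (t * t') *
    ((![g1, g2, g3, g4, g5] : Fin 5 → Cfsg.Spor.Fi22) i)⁻¹) with hJ
  have ab : mdl.wd [.a, .b] ∈ J := by rw [← h1]; exact subset_closure ⟨0, rfl⟩
  have cd : mdl.wd [.c, .d] ∈ J := by rw [← h2]; exact subset_closure ⟨1, rfl⟩
  have fg : mdl.wd [.f, .g] ∈ J := by rw [← h3]; exact subset_closure ⟨2, rfl⟩
  have hi : mdl.wd [.h, .i] ∈ J := by rw [← h4]; exact subset_closure ⟨3, rfl⟩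
  have de : mdl.wd [.d, .e] ∈ J := by rw [← h5]; exact subset_closure ⟨4, rfl⟩
  have hw : mdl.wd w3 ∈ J := mem2 (mem2' ab) <| mem2 cd <| mem2 (mem2' de) <| mem2 hi <| mem2 fg <| mem2 de <|
    mem2 hi <| mem2 cd <| mem2 (mem2' hi) cd
  obtain ⟨h6, h7⟩ := chk_spec mdl chk_w3
  exact top_of_order hw ab h6 h7

theorem closure_T : closure T = ⊤ := by
  rw [eq_top_iff, ← closure_gen, closure_le]
  rintro _ ⟨x, rfl⟩
  exact subset_closure (Cfsg.Agent.R01.Fi22Facts.gen_mem x)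

theorem gen_model : Gen11 Cfsg.Spor.Fi22 := by
  intro x hx
  have hx1 : x ≠ 1 := by
    rintro rfl
    rw [orderOf_one] at hx
    exact Nat.not_prime_one hx
  obtain ⟨t, ht, htx⟩ : ∃ t ∈ T, x t ≠ t := by
    by_contra hno
    push Not at hno
    apply hx1
    have h1 : closure T ≤ (x.toMonoidHom.eqLocus (MonoidHom.id _)) := by
      rw [closure_le]
      intro t ht
      exact hno t ht
    rw [closure_T] at h1
    ext y
    exact h1 (mem_top y)
  have hxt : x t ∈ T := Cfsg.Agent.R08.AutT.aut_mem x ht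
  have hinv : t⁻¹ = t := inv_eq_of_mul_eq_one_left (T_ne_one ht)
  refine CA_of_comm (t := t) (k := 5) (by norm_num) ?_ (by norm_num)
  rw [hinv]
  by_cases hc : Commute (x t) t
  · exact cg_comm hxt ht htx hc
  · exact cg_ncomm hxt ht hc

/-- **Row `Fi22` of S4327.** -/
theorem gen_fi22 {K : Type u} [Group K] (h : Cfsg.Spor.IsoFi22 K) : Gen11 K := by
  obtain ⟨e⟩ := h
  exact Gen11.congr e.symm gen_model

end Cfsg.Agent.H867.Gen.FiTwentyTwo
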