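import Cfsg.Agent.H867.Gen.Baer
import Cfsg.Agent.H867.Rec.SuzFrob
import Cfsg.Agent.H994.TwoGen.Suz
import Cfsg.Agent.H799.PiBS.Suz
import Cfsg.Agent.KFacts.SuzOut

/-!
# S4327, row `Suz` (helper867)

Two generating pairs: an involution `el xA` of the first class and `f1 = ab` (of order 5), an involution `el xB` of the second
class and `el yB` (of order 5, the second class of elements of order 5). With the products `xA f1`, `xA f1²`, `xB yB²` of orders
13, 11, 7 this gives at most five conjugates for all primes except 3; the prime 3 is free (Baer-Suzuki), outer involutions have a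
commutator of order 5.

* `gen_suz` : `Gen11`.
-/

set_option autoImplicit false
set_option maxRecDepth 100000
set_option exponentiation.threshold 5000

namespace Cfsg.Agent.H867.Gen.Suz

open Subgroup Cfsg
open Cfsg.Spor (Suz)
open Cfsg.Agent.Lib.PermNet Cfsg.Agent.Lib.PermNetOrbit Cfsg.Agent.SporadicRecognition.SuzPhi
  Cfsg.Agent.SporadicRecognition.SuzBound Cfsg.Agent.SporadicRecognition.SuzOrder
  Cfsg.Agent.SuzThree.Nets Cfsg.Agent.SuzThree.Basic
open Cfsg.Agent.CpAutSuz.Fix (el_pow)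
open Cfsg.Agent.CpAutSuz.Five (w1 w2 f1 f2 f1_pow f2_pow f_comm mem_Y0 exists_conj)
open Cfsg.Agent.KFacts.SuzLFour (ne_one_of)
open Cfsg.Agent.H867.Rec.SuzFrob (rp one_of el_rp c c_f1 c_f2)
open Cfsg.Agent.H147.Gen Cfsg.Agent.H867.Gen.Comm Cfsg.Agent.H867.Gen.Baer

universe u

/-! ### two generating pairs -/

def uA : List Suz.Gen := [.c, .b, .f, .d, .c, .b, .g, .f, .c, .d, .e, .c, .d, .c, .b]
def uB : List Suz.Gen := [.g, .b, .f, .c, .b, .g, .f, .d, .b, .c]

/-- an involution of the class of `a` -/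
def xA : List Suz.Gen := uA ++ ([.a] ++ uA.reverse)
/-- an involution of the class of `d` -/
def xB : List Suz.Gen := uB ++ ([.d] ++ uB.reverse)
/-- an element of order 5 -/
def yB : List Suz.Gen := w1 ++ (w1 ++ w2)

/-- syllables `x`, `y`, `y²`, `y⁻²`, `y⁻¹` -/
def sy (x y : List Suz.Gen) : ℕ → List Suz.Gen
  | 0 => x
  | 1 => y
  | 2 => y ++ y
  | 3 => y.reverse ++ y.reverse
  | _ => y.reverse

/-- the word with given syllables -/
def ex (x y : List Suz.Gen) : List ℕ → List Suz.Gen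
  | [] => []
  | n :: l => sy x y n ++ ex x y l

theorem sy_mem (x y : List Suz.Gen) (n : ℕ) : el (sy x y n) ∈ closure ({el x, el y} : Set Suz) := by
  have hx : el x ∈ closure ({el x, el y} : Set Suz) := subset_closure (by simp)
  have hy : el y ∈ closure ({el x, el y} : Set Suz) := subset_closure (by simp)
  unfold sy
  split
  · exact hx
  · exact hy
  · rw [el_append]; exact mul_mem hy hy
  · rw [el_append, el_reverse]; exact mul_mem (inv_mem hy) (inv_mem hy)
  · rw [el_reverse]; exact inv_mem hy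

theorem ex_mem (x y : List Suz.Gen) (l : List ℕ) : el (ex x y l) ∈ closure ({el x, el y} : Set Suz) := by
  induction l with
  | nil => exact one_mem _
  | cons n l ih =>
    rw [ex, el_append]
    exact mul_mem (sy_mem x y n) ih

theorem top_of {x y : List Suz.Gen} (l1 l2 : List ℕ)
    (h1 : t5 (wd (ex x y l1 ++ H994.TwoGen.Suz.X.reverse)) = true)
    (h2 : t5 (wd (ex x y l2 ++ H994.TwoGen.Suz.Y.reverse)) = true) : closure ({el x, el y} : Set Suz) = ⊤ := by
  have e1 := one_of h1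
  have e2 := one_of h2
  rw [el_append, el_reverse, mul_inv_eq_one] at e1 e2
  rw [eq_top_iff, ← H994.TwoGen.Suz.H_eq, H994.TwoGen.Suz.H, closure_le]
  rintro z (rfl | hz)
  · rw [← e1]; exact ex_mem x y l1
  · rw [Set.mem_singleton_iff] at hz
    rw [hz, ← e2]; exact ex_mem x y l2

theorem chkAX : t5 (wd (ex xA w1 [2, 0, 4, 0, 1, 0, 4, 0, 3, 0, 1, 0, 4, 0, 2, 0, 1, 0, 3, 0, 1, 0, 4, 0, 1, 0, 2, 0, 3, 0, 4, 0,
    1, 0, 4, 0, 1, 0, 1] ++ H994.TwoGen.Suz.X.reverse)) = true := by decide +kernel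
theorem chkAY : t5 (wd (ex xA w1 [3, 0, 2, 0, 1, 0, 3, 0, 2, 0, 4, 0, 4, 0, 1, 0, 2, 0, 1, 0, 4, 0, 1, 0, 1, 0, 3, 0, 4, 0, 3, 0,
    4, 0, 1, 0, 1] ++ H994.TwoGen.Suz.Y.reverse)) = true := by decide +kernel
theorem chkBX : t5 (wd (ex xB yB [3, 0, 4, 0, 3, 0, 1, 0, 4, 0, 2, 0, 1, 0, 1, 0, 3, 0, 4, 0, 4, 0, 2, 0, 1, 0, 1, 0, 2, 0, 2, 0,
    3, 0, 4, 0, 2, 0, 4] ++ H994.TwoGen.Suz.X.reverse)) = true := by decide +kernel
theorem chkBY : t5 (wd (ex xB yB [4, 0, 4, 0, 4, 0, 2, 0, 2, 0, 4, 0, 4, 0, 4, 0, 1, 0, 3, 0, 2, 0, 4, 0, 3, 0, 1, 0, 4, 0, 3, 0,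
    4, 0, 3, 0, 1, 0, 1] ++ H994.TwoGen.Suz.Y.reverse)) = true := by decide +kernel

theorem topA : closure ({el xA, f1} : Set Suz) = ⊤ := top_of _ _ chkAX chkAY
theorem topB : closure ({el xB, el yB} : Set Suz) = ⊤ := top_of _ _ chkBX chkBY

/-! ### involutions -/

theorem el_xA : el xA = el uA * el [.a] * (el uA)⁻¹ := by
  rw [xA, el_append, el_append, el_reverse, mul_assoc]

theorem el_xB : el xB = el uB * el [.d] * (el uB)⁻¹ := by
  rw [xB, el_append, el_append, el_reverse, mul_assoc]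

theorem sq_gen (k : Suz.Gen) : el [k] * el [k] = 1 := by
  have h : (el [k])⁻¹ = el [k] := (el_reverse [k]).symm
  nth_rewrite 1 [← h]
  exact inv_mul_cancel _

theorem xA_sq : el xA ^ 2 = 1 := by
  rw [el_xA, conj_pow, pow_two, sq_gen]; group

theorem xB_sq : el xB ^ 2 = 1 := by
  rw [el_xB, conj_pow, pow_two, sq_gen]; group

theorem yB_eq : el yB = f1 ^ 2 * f2 := by
  rw [yB, el_append, el_append, ← mul_assoc, ← pow_two]; rfl

theorem yB_pow : el yB ^ 5 = 1 := by
  have hc : Commute (f1 ^ 2) f2 := (show Commute f1 f2 from f_comm).pow_left 2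
  rw [yB_eq, hc.mul_pow, ← pow_mul, mul_comm 2 5, pow_mul, f1_pow, f2_pow, one_pow, one_mul]

theorem simple : IsSimpleGroup Suz := Cfsg.Agent.SporadicRecognition.SuzOrder.simple

theorem finite_suz : Finite Suz := Cfsg.Agent.CTwoTab.Suz.finSuz

/-- a point is moved -/
theorem ne_one {w : List Suz.Gen} {p q : ℕ} (h : mv (wd w) p q = true) (hpq : p ≠ q) : el w ≠ 1 :=
  Cfsg.Agent.H799.PiBS.Suz.ne_one_of h hpq

theorem cg_a : CG 5 (el [.a]) := by
  have := simple
  have h := CG.of_orbit (x := el xA) (y := f1) (n := 5) (ne_one (p := 0) (q := 814) (by decide +kernel) (by norm_num)) (by norm_num) f1_pow topA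
  rw [el_xA] at h
  exact CG.of_conj _ h

theorem cg_d : CG 5 (el [.d]) := by
  have := simple
  have h := CG.of_orbit (x := el xB) (y := el yB) (n := 5) (ne_one (p := 0) (q := 137) (by decide +kernel) (by norm_num)) (by norm_num) yB_pow topB
  rw [el_xB] at h
  exact CG.of_conj _ h

theorem conj_de : IsConj (el [.d]) (el [.e]) := by
  rw [isConj_iff]
  refine ⟨el [.d, .e], ?_⟩
  rw [← el_reverse, ← el_append, ← el_append, ← mul_inv_eq_one, ← el_reverse, ← el_append]
  exact one_of (by decide +kernel)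

/-- **involutions** -/
theorem gen_two : GenI Suz 5 2 := by
  intro g hg
  have h1 : g * g = 1 := by rw [← pow_two, ← hg, pow_orderOf_eq_one]
  have h2 : g ≠ 1 := by
    rintro rfl
    rw [orderOf_one] at hg
    exact absurd hg (by norm_num)
  rcases Cfsg.Agent.CTwoTab.Suz.classes h1 h2 with h | h
  · exact cg_a.of_isConj h
  · exact (cg_d.of_isConj conj_de).of_isConj h

/-! ### Sylow subgroups of prime order -/

theorem gen_sylow {l : ℕ} (hl : l.Prime) (h2 : ¬ l ^ 2 ∣ 448345497600) {z : Suz} (hz : orderOf z = l) (h : CG 2 z) :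
    GenI Suz 5 l := by
  have := finite_suz
  intro g hg
  obtain ⟨b, hb⟩ := Cfsg.Agent.CpAutSuz.Fix.isConj_zpowers hl (by rw [card_Suz]; exact h2) hz hg
  have h3 : b * z * b⁻¹ ∈ zpowers g := by rw [← hb]; exact mem_zpowers _
  rw [← mem_powers_iff_mem_zpowers] at h3
  obtain ⟨m, hm⟩ := h3
  have h4 : CG 2 (g ^ m) := by
    show CG 2 ((fun n : ℕ => g ^ n) m)
    rw [hm]
    exact h.conj b
  exact (CG.of_pow h4).mono (by norm_num)

theorem cg_two {z x : Suz} (hz : z ≠ 1) (hx : x ^ 2 = 1) {y : Suz} (h : closure ({x, y} : Set Suz) = ⊤)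
    (hy : y ∈ closure ({z, x} : Set Suz)) : CG 2 z := by
  have := simple
  refine CG.of_orbit hz (by norm_num) hx ?_
  rw [eq_top_iff, ← h, closure_le]
  rintro w (rfl | hw)
  · exact subset_closure (by simp)
  · rw [Set.mem_singleton_iff] at hw
    rw [hw]; exact hy

theorem order_of_word {w : List Suz.Gen} {l p q : ℕ} (hl : l.Prime) (h : t5 (wd (rp l w)) = true)
    (h1 : mv (wd w) p q = true) (hpq : p ≠ q) : orderOf (el w) = l := by
  have : Fact l.Prime := ⟨hl⟩
  refine orderOf_eq_prime ?_ (ne_one h1 hpq)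
  rw [← el_rp]
  exact one_of h

theorem gen_thirteen : GenI Suz 5 13 := by
  have ho : orderOf (el (xA ++ w1)) = 13 := order_of_word (p := 0) (q := 814) (by norm_num) (by decide +kernel)
    (by decide +kernel) (by norm_num)
  refine gen_sylow (by norm_num) (by norm_num) ho (cg_two (fun h => ?_) xA_sq topA ?_)
  · rw [h, orderOf_one] at ho
    exact absurd ho (by norm_num)
  · have h1 : el (xA ++ w1) ∈ closure ({el (xA ++ w1), el xA} : Set Suz) := subset_closure (by simp)
    have h2 : el xA ∈ closure ({el (xA ++ w1), el xA} : Set Suz) := subset_closure (by simp)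
    have h3 := mul_mem (inv_mem h2) h1
    rw [el_append, inv_mul_cancel_left] at h3
    rw [el_append]
    exact h3

theorem gen_eleven : GenI Suz 5 11 := by
  have ho : orderOf (el (xA ++ (w1 ++ w1))) = 11 := order_of_word (p := 0) (q := 814) (by norm_num) (by decide +kernel)
    (by decide +kernel) (by norm_num)
  refine gen_sylow (by norm_num) (by norm_num) ho (cg_two (fun h => ?_) xA_sq topA ?_)
  · rw [h, orderOf_one] at ho
    exact absurd ho (by norm_num)
  · have h1 : el (xA ++ (w1 ++ w1)) ∈ closure ({el (xA ++ (w1 ++ w1)), el xA} : Set Suz) := subset_closure (by simp)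
    have h2 : el xA ∈ closure ({el (xA ++ (w1 ++ w1)), el xA} : Set Suz) := subset_closure (by simp)
    have h3 := mul_mem (inv_mem h2) h1
    rw [el_append, inv_mul_cancel_left, el_append] at h3
    have h4 := pow_mem h3 3
    have h5 : (el w1 * el w1) ^ 3 = f1 := by
      show (f1 * f1) ^ 3 = f1
      rw [← pow_two, ← pow_mul, show 2 * 3 = 5 + 1 from rfl, pow_succ, f1_pow, one_mul]
    rw [h5] at h4
    rw [el_append, el_append]
    exact h4

theorem gen_seven : GenI Suz 5 7 := by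
  have ho : orderOf (el (xB ++ (yB ++ yB))) = 7 := order_of_word (p := 0) (q := 137) (by norm_num) (by decide +kernel)
    (by decide +kernel) (by norm_num)
  refine gen_sylow (by norm_num) (by norm_num) ho (cg_two (fun h => ?_) xB_sq topB ?_)
  · rw [h, orderOf_one] at ho
    exact absurd ho (by norm_num)
  · have h1 : el (xB ++ (yB ++ yB)) ∈ closure ({el (xB ++ (yB ++ yB)), el xB} : Set Suz) := subset_closure (by simp)
    have h2 : el xB ∈ closure ({el (xB ++ (yB ++ yB)), el xB} : Set Suz) := subset_closure (by simp)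
    have h3 := mul_mem (inv_mem h2) h1
    rw [el_append, inv_mul_cancel_left, el_append] at h3
    have h4 := pow_mem h3 3
    have h5 : (el yB * el yB) ^ 3 = el yB := by
      rw [← pow_two, ← pow_mul, show 2 * 3 = 5 + 1 from rfl, pow_succ, yB_pow, one_mul]
    rw [h5] at h4
    rw [el_append, el_append]
    exact h4

/-! ### order 5 -/

theorem cg_f1 : CG 2 f1 := by
  refine cg_two (fun h => ?_) xA_sq topA (subset_closure (by simp))
  have h1 := order_of_word (w := w1) (l := 5) (p := 1) (q := 3) (by norm_num) (by decide +kernel) (by decide +kernel) (by norm_num)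
  rw [show el w1 = 1 from h, orderOf_one] at h1
  exact absurd h1 (by norm_num)

theorem cg_yB : CG 2 (f1 ^ 2 * f2) := by
  rw [← yB_eq]
  exact cg_two (ne_one (p := 1) (q := 2) (by decide +kernel) (by norm_num)) xB_sq topB (subset_closure (by simp))

/-- the action of `c` -/
def act (x : ℕ × ℕ) : ℕ × ℕ := ((3 * x.1 + 2 * x.2) % 5, (3 * x.1) % 5)

theorem c_conj (i j : ℕ) : c * (f1 ^ i * f2 ^ j) * c⁻¹ = f1 ^ (3 * i + 2 * j) * f2 ^ (3 * i) := by
  have hc : Commute f1 f2 := f_comm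
  have e : c * (f1 ^ i * f2 ^ j) * c⁻¹ = (c * f1 * c⁻¹) ^ i * (c * f2 * c⁻¹) ^ j := by
    rw [conj_pow, conj_pow]; group
  rw [e, c_f1, c_f2, (hc.pow_pow 3 3).mul_pow, ← pow_mul, ← pow_mul, ← pow_mul, mul_assoc,
    ← (hc.pow_pow (2 * j) (3 * i)).eq, ← mul_assoc, ← pow_add]

theorem act_step {x : ℕ × ℕ} (h : CG 2 (f1 ^ x.1 * f2 ^ x.2)) : CG 2 (f1 ^ (act x).1 * f2 ^ (act x).2) := by
  have h1 := h.conj c
  rw [c_conj] at h1
  have e1 : ∀ n : ℕ, f1 ^ (n % 5) = f1 ^ n := fun n => by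
    conv_rhs => rw [← Nat.div_add_mod n 5, pow_add, pow_mul, f1_pow, one_pow, one_mul]
  have e2 : ∀ n : ℕ, f2 ^ (n % 5) = f2 ^ n := fun n => by
    conv_rhs => rw [← Nat.div_add_mod n 5, pow_add, pow_mul, f2_pow, one_pow, one_mul]
  show CG 2 (f1 ^ ((3 * x.1 + 2 * x.2) % 5) * f2 ^ ((3 * x.1) % 5))
  rw [e1, e2]
  exact h1

theorem act_iter {x : ℕ × ℕ} (h : CG 2 (f1 ^ x.1 * f2 ^ x.2)) (n : ℕ) :
    CG 2 (f1 ^ (act^[n] x).1 * f2 ^ (act^[n] x).2) := by
  induction n with
  | zero => exact h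
  | succ n ih =>
    rw [Function.iterate_succ_apply']
    exact act_step ih

theorem orbits : ∀ i < 5, ∀ j < 5, (i = 0 ∧ j = 0) ∨ ∃ n < 12, act^[n] (1, 0) = (i, j) ∨ act^[n] (2, 1) = (i, j) := by
  decide

theorem cg_five {i j : ℕ} (hi : i < 5) (hj : j < 5) (h : ¬ (i = 0 ∧ j = 0)) : CG 2 (f1 ^ i * f2 ^ j) := by
  rcases orbits i hi j hj with h1 | ⟨n, -, h1 | h1⟩
  · exact absurd h1 h
  · have h2 := act_iter (x := (1, 0)) (by simpa using cg_f1) n
    rw [h1] at h2
    exact h2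
  · have h2 := act_iter (x := (2, 1)) (by simpa using cg_yB) n
    rw [h1] at h2
    exact h2

theorem gen_five : GenI Suz 2 5 := by
  intro v hv
  have : Fact (Nat.Prime 5) := ⟨by norm_num⟩
  obtain ⟨b, hb⟩ := exists_conj (X := zpowers v) (IsPGroup.of_card (n := 1) (by rw [Nat.card_zpowers, hv, pow_one]))
  have h1 : b * v * b⁻¹ ∈ Cfsg.Agent.CpAutSuz.Five.Y0 := hb ⟨v, mem_zpowers v, rfl⟩
  obtain ⟨i, hi, j, hj, h2⟩ := mem_Y0 h1
  apply CG.of_conj b
  rw [h2]
  refine cg_five hi hj fun ⟨hi0, hj0⟩ => ?_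
  rw [hi0, hj0, pow_zero, pow_zero, one_mul, mul_inv_eq_one] at h2
  have h3 : v = 1 := by
    rw [mul_eq_left] at h2
    exact h2
  rw [h3, orderOf_one] at hv
  exact absurd hv (by norm_num)

/-! ### outer involutions -/

theorem ca_of_order {x : MulAut Suz} {t : Suz} (h : orderOf (x t * t⁻¹) = 5) : CA 11 x :=
  CA_of_comm (k := 2) (by norm_num) (gen_five _ h) (by norm_num)

theorem ca_conj {x : MulAut Suz} {t : Suz} (h : orderOf (x t * t⁻¹) = 5) (g : Suz) :
    CA 11 (MulAut.conj g * x * (MulAut.conj g)⁻¹) := by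
  apply ca_of_order (t := g * t * g⁻¹)
  have e : (MulAut.conj g * x * (MulAut.conj g)⁻¹) (g * t * g⁻¹) * (g * t * g⁻¹)⁻¹ = g * (x t * t⁻¹) * g⁻¹ := by
    rw [← map_inv]
    simp only [MulAut.mul_apply, MulAut.conj_apply]
    group
  rw [e, ← MulAut.conj_apply, MulEquiv.orderOf_eq]
  exact h

theorem order_rho : orderOf (Cfsg.Agent.KFacts.SuzRho.rho (el [.f, .b, .g]) * (el [.f, .b, .g])⁻¹) = 5 := by
  rw [Cfsg.Agent.H799.PiBS.Suz.comm_rho]
  exact order_of_word (p := 0) (q := 2) (by norm_num) (by decide +kernel) (by decide +kernel) (by norm_num)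

theorem order_sigma : orderOf (Cfsg.Agent.KFacts.SuzRho.sigma (el [.f, .b, .g]) * (el [.f, .b, .g])⁻¹) = 5 := by
  rw [Cfsg.Agent.H799.PiBS.Suz.comm_sigma]
  exact order_of_word (p := 0) (q := 2) (by norm_num) (by decide +kernel) (by decide +kernel) (by norm_num)

theorem gen_outer : GenO Suz 11 := by
  intro x hx hr
  have hxx : x * x = 1 := by rw [← pow_two, ← hx, pow_orderOf_eq_one]
  rcases Cfsg.Agent.KFacts.SuzInvol.outer hxx (fun s hs => hr ⟨s, hs.symm⟩) with ⟨g, h⟩ | ⟨g, h⟩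
  · rw [h]
    exact ca_conj order_rho g
  · have h2 : x = MulAut.conj (g * (el [.e, .d])⁻¹) * Cfsg.Agent.KFacts.SuzRho.sigma *
        (MulAut.conj (g * (el [.e, .d])⁻¹))⁻¹ := by
      rw [h, Cfsg.Agent.KFacts.SuzInvol.sigma_eq, map_mul, map_inv]
      group
    rw [h2]
    exact ca_conj order_sigma _

theorem center_suz : center Suz = ⊥ := Cfsg.Agent.BpSpor.SuzThree.center_eq

/-- outer automorphisms of prime order, if `|Out| ≤ 2` -/
theorem out_two {K : Type*} [Group K] (h : (MulAut.conj : K →* MulAut K).range.index = 1 ∨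
    (MulAut.conj : K →* MulAut K).range.index = 2) (x : MulAut K) (hx : (orderOf x).Prime)
    (ho : x ∉ (MulAut.conj : K →* MulAut K).range) : orderOf x = 2 := by
  have h2 : x ^ 2 ∈ (MulAut.conj : K →* MulAut K).range := by
    rcases h with h | h
    · rw [Subgroup.index_eq_one.1 h]; trivial
    · have h3 := Subgroup.pow_index_mem (MulAut.conj : K →* MulAut K).range x
      rwa [h] at h3
  by_contra hne
  obtain ⟨k, hk⟩ := hx.odd_of_ne_two hne
  apply ho
  have e : x = (x ^ 2) ^ (k + 1) := by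
    rw [← pow_mul, show 2 * (k + 1) = orderOf x + 1 by omega, pow_succ, pow_orderOf_eq_one, one_mul]
  rw [e]
  exact pow_mem h2 _

theorem primes {p : ℕ} (hp : p.Prime) (hd : p ∣ Nat.card Suz) : p = 2 ∨ p = 3 ∨ p = 5 ∨ p = 7 ∨ p = 11 ∨ p = 13 := by
  rw [card_Suz, show (448345497600 : ℕ) = 2 ^ 13 * (3 ^ 7 * (5 ^ 2 * (7 * (11 * 13)))) by norm_num] at hd
  have key : ∀ {q : ℕ}, q.Prime → p ∣ q → p = q := fun hq h => (Nat.prime_dvd_prime_iff_eq hp hq).1 h
  rcases (Nat.Prime.dvd_mul hp).1 hd with h | hd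
  · exact Or.inl (key (by norm_num) (hp.dvd_of_dvd_pow h))
  rcases (Nat.Prime.dvd_mul hp).1 hd with h | hd
  · exact Or.inr (Or.inl (key (by norm_num) (hp.dvd_of_dvd_pow h)))
  rcases (Nat.Prime.dvd_mul hp).1 hd with h | hd
  · exact Or.inr (Or.inr (Or.inl (key (by norm_num) (hp.dvd_of_dvd_pow h))))
  rcases (Nat.Prime.dvd_mul hp).1 hd with h | hd
  · exact Or.inr (Or.inr (Or.inr (Or.inl (key (by norm_num) h))))
  rcases (Nat.Prime.dvd_mul hp).1 hd with h | h
  · exact Or.inr (Or.inr (Or.inr (Or.inr (Or.inl (key (by norm_num) h)))))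
  · exact Or.inr (Or.inr (Or.inr (Or.inr (Or.inr (key (by norm_num) h)))))

theorem not_pGroup : ¬ IsPGroup 3 Suz := by
  intro h
  have := finite_suz
  have : Fact (Nat.Prime 3) := ⟨Nat.prime_three⟩
  obtain ⟨n, hn⟩ := IsPGroup.iff_card.1 h
  rw [card_Suz] at hn
  have h1 : 2 ∣ 3 ^ n := by rw [← hn]; norm_num
  have h2 := Nat.prime_two.dvd_of_dvd_pow h1
  omega

theorem gen_model : Gen11 Suz := by
  have := finite_suz
  have := simple
  refine gen11_of_ne center_suz Nat.prime_three not_pGroup (out_two Cfsg.Agent.KFacts.SuzOut.index_eq)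
    (fun q hq hq3 => ?_) gen_outer
  by_cases hd : q ∣ Nat.card Suz
  · rcases primes hq hd with rfl | rfl | rfl | rfl | rfl | rfl
    · exact gen_two
    · exact absurd rfl hq3
    · exact gen_five.mono (by norm_num)
    · exact gen_seven
    · exact gen_eleven
    · exact gen_thirteen
  · intro g hg
    exact absurd (hg ▸ orderOf_dvd_natCard g) hd

/-- **the row `Suz` of S4327** -/
theorem gen_suz {K : Type u} [Group K] (h : Cfsg.Spor.IsoSuz K) : Gen11 K := by
  obtain ⟨e⟩ := h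
  exact gen_model.congr e.symm

end Cfsg.Agent.H867.Gen.Suz
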