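import Cfsg.Agent.LieClassical.SLGen
import Mathlib.FieldTheory.Finite.Basic

/-!
# S4327: two conjugates of `transvection (0 1) 1 * transvection (1 0) c` generate `SL₃(q)`, `q = 2, 3` (helper867)

* `sl3_small`.
-/

set_option autoImplicit false
set_option maxRecDepth 100000

namespace Cfsg.Agent.H867.Gen.SLThree

open Subgroup

/-- `SL₃` -/
abbrev SL (K : Type*) [CommRing K] : Type _ := Matrix.SpecialLinearGroup (Fin 3) K

section General

variable {K : Type*} [Field K]

/-- the element `w` -/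
def ww (c : K) : SL K :=
  Matrix.SpecialLinearGroup.transvection (show (0 : Fin 3) ≠ 1 by decide) (1 : K) *
    Matrix.SpecialLinearGroup.transvection (show (1 : Fin 3) ≠ 0 by decide) c

theorem transvection_nat {i j : Fin 3} (hij : i ≠ j) (n : ℕ) :
    Matrix.SpecialLinearGroup.transvection hij (n : K) = (Matrix.SpecialLinearGroup.transvection hij (1 : K)) ^ n := by
  induction n with
  | zero => rw [Nat.cast_zero, Matrix.SpecialLinearGroup.transvection_coeff_zero, pow_zero]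
  | succ n ih =>
    rw [pow_succ, ← ih]
    apply Subtype.ext
    show Matrix.transvection i j ((n + 1 : ℕ) : K) = Matrix.transvection i j (n : K) * Matrix.transvection i j (1 : K)
    rw [Matrix.transvection_mul_transvection_same i j hij, Nat.cast_succ]

end General

theorem top_of {p : ℕ} [Fact p.Prime] {S : Subgroup (SL (ZMod p))}
    (h : ∀ (i j : Fin 3) (hij : i ≠ j), Matrix.SpecialLinearGroup.transvection hij (1 : ZMod p) ∈ S) : S = ⊤ := by
  rw [eq_top_iff, ← Cfsg.Agent.LieClassical.SLGen.closure_transvections, closure_le]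
  rintro _ ⟨i, j, hij, c, rfl⟩
  have e : c = ((c.val : ℕ) : ZMod p) := (ZMod.natCast_zmod_val c).symm
  rw [e, transvection_nat]
  exact pow_mem (h i j hij) _

section Words

variable {R : Type*} [CommRing R]

/-- matrices -/
abbrev Mx (R : Type*) : Type _ := Matrix (Fin 3) (Fin 3) R

/-- the matrix of an element -/
abbrev mm : SL R →* Mx R := Matrix.SpecialLinearGroup.coeMonoidHom

theorem mm_inj {a b : SL R} (h : mm a = mm b) : a = b := Subtype.ext h

theorem mm_inv {x : SL R} {X : Mx R} (h : mm x * X = 1) : mm x⁻¹ = X := by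
  have h1 : mm x⁻¹ * mm x = 1 := by rw [← map_mul, inv_mul_cancel, map_one]
  calc mm x⁻¹ = mm x⁻¹ * (mm x * X) := by rw [h, mul_one]
    _ = X := by rw [← mul_assoc, h1, one_mul]

/-- the matrices of the letters -/
def lt (A B A' B' : Mx R) : ℕ → Mx R
  | 0 => A
  | 1 => B
  | 2 => A'
  | _ => B'

/-- product of a word -/
def wd (A B A' B' : Mx R) (w : List ℕ) : Mx R := (w.map (lt A B A' B')).prod

theorem wd_mem {a b : SL R} {A B A' B' : Mx R} (ha : mm a = A) (hb : mm b = B) (hA : A * A' = 1) (hB : B * B' = 1)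
    (w : List ℕ) : ∃ g ∈ closure ({a, b} : Set (SL R)), mm g = wd A B A' B' w := by
  have ha1 : a ∈ closure ({a, b} : Set (SL R)) := subset_closure (by simp)
  have hb1 : b ∈ closure ({a, b} : Set (SL R)) := subset_closure (by simp)
  induction w with
  | nil => exact ⟨1, one_mem _, map_one _⟩
  | cons k w ih =>
    obtain ⟨g, hg, e⟩ := ih
    have hk : ∃ x ∈ closure ({a, b} : Set (SL R)), mm x = lt A B A' B' k := by
      match k with
      | 0 => exact ⟨a, ha1, ha⟩
      | 1 => exact ⟨b, hb1, hb⟩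
      | 2 => exact ⟨a⁻¹, inv_mem ha1, mm_inv (by rw [ha]; exact hA)⟩
      | k + 3 => exact ⟨b⁻¹, inv_mem hb1, mm_inv (by rw [hb]; exact hB)⟩
    obtain ⟨x, hx, ex⟩ := hk
    refine ⟨x * g, mul_mem hx hg, ?_⟩
    rw [map_mul, e, ex]
    unfold wd
    rw [List.map_cons, List.prod_cons]

end Words

/-- data of a case -/
structure Dat {K : Type*} [Field K] (c : K) (V A B A' B' : Mx K) (W : List (Fin 3 × Fin 3 × List ℕ)) : Prop where
  det : V.det = 1
  wm : (Matrix.transvection 0 1 1 * Matrix.transvection 1 0 c : Mx K) = A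
  conj : V * A = B * V
  inv1 : A * A' = 1
  inv2 : B * B' = 1
  word : ∀ x ∈ W, wd A B A' B' x.2.2 = Matrix.transvection x.1 x.2.1 1
  all : ∀ i j : Fin 3, i ≠ j → ∃ x ∈ W, x.1 = i ∧ x.2.1 = j

theorem Dat.top {p : ℕ} [Fact p.Prime] {c : ZMod p} {V A B A' B' : Mx (ZMod p)} {W : List (Fin 3 × Fin 3 × List ℕ)}
    (D : Dat c V A B A' B' W) : ∃ v : SL (ZMod p), closure ({ww c, v * ww c * v⁻¹} : Set (SL (ZMod p))) = ⊤ := by
  have hex : ∃ v : SL (ZMod p), mm v = V := ⟨⟨V, D.det⟩, rfl⟩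
  obtain ⟨v, hv⟩ := hex
  have hw : mm (ww c) = A := D.wm
  have hb : mm (v * ww c * v⁻¹) = B := by
    have h1 : V * mm v⁻¹ = 1 := by
      rw [← hv, ← map_mul, mul_inv_cancel, map_one]
    rw [map_mul, map_mul, hw, hv, D.conj, mul_assoc, h1, mul_one]
  refine ⟨v, top_of fun i j hij => ?_⟩
  obtain ⟨x, hx, rfl, rfl⟩ := D.all i j hij
  obtain ⟨g, hg, e⟩ := wd_mem hw hb D.inv1 D.inv2 x.2.2
  rw [D.word x hx] at e
  have h4 : g = Matrix.SpecialLinearGroup.transvection hij 1 := mm_inj e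
  rwa [h4] at hg

def W2 : List (Fin 3 × Fin 3 × List ℕ) := [(0, 1, [0, 1, 0, 3, 0, 1, 2, 1, 0, 1]), (0, 2, [1, 2, 3, 2, 1]),
  (1, 0, [1, 0, 3, 0, 1, 2, 1, 0, 1]), (1, 2, [0, 1, 2, 3, 2, 1, 2]), (2, 0, [0, 1, 0, 3, 0, 1, 2]),
  (2, 1, [1, 0, 3, 0, 1])]

def W31 : List (Fin 3 × Fin 3 × List ℕ) := [(0, 1, [1, 1, 0, 3, 0, 1, 0]), (0, 2, [1, 0, 1, 1, 0, 3, 0]),
  (1, 0, [0, 3, 2, 1, 2, 1, 1, 2]), (1, 2, [0, 1, 0, 0, 3, 0, 1, 0, 0, 3]), (2, 0, [1, 0, 0, 1, 2, 1, 0, 3]),
  (2, 1, [1, 1, 2, 3, 2, 1, 2])]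

def W32 : List (Fin 3 × Fin 3 × List ℕ) := [(0, 1, [0, 1, 0, 3, 3, 2, 3]), (0, 2, [2, 3, 0, 0, 3, 2, 2, 1]),
  (1, 0, [1, 0, 3, 3, 2, 3]), (1, 2, [0, 3, 0, 0, 1, 2, 2, 1]), (2, 0, [1, 2, 1, 1, 0, 3]),
  (2, 1, [2, 1, 2, 1, 1, 0, 3, 0])]

theorem dat2 : Dat (1 : ZMod 2) !![1, 1, 1; 0, 1, 0; 0, 1, 1] !![0, 1, 0; 1, 1, 0; 0, 0, 1] !![1, 1, 0; 1, 1, 1; 1, 0, 0]
    !![1, 1, 0; 1, 0, 0; 0, 0, 1] !![0, 0, 1; 1, 0, 1; 1, 1, 0] W2 where
  det := by decide +kernel
  wm := by decide +kernel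
  conj := by decide +kernel
  inv1 := by decide +kernel
  inv2 := by decide +kernel
  word := by decide +kernel
  all := by decide +kernel

theorem dat31 : Dat (1 : ZMod 3) !![2, 0, 1; 0, 1, 0; 1, 0, 1] !![2, 1, 0; 1, 1, 0; 0, 0, 1] !![0, 2, 1; 1, 1, 2; 1, 1, 0]
    !![1, 2, 0; 2, 2, 0; 0, 0, 1] !![1, 1, 0; 2, 2, 1; 0, 2, 1] W31 where
  det := by decide +kernel
  wm := by decide +kernel
  conj := by decide +kernel
  inv1 := by decide +kernel
  inv2 := by decide +kernel
  word := by decide +kernel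
  all := by decide +kernel

theorem dat32 : Dat (2 : ZMod 3) !![2, 0, 1; 0, 1, 0; 1, 0, 1] !![0, 1, 0; 2, 1, 0; 0, 0, 1] !![2, 2, 2; 2, 1, 1; 2, 1, 2]
    !![1, 2, 0; 1, 0, 0; 0, 0, 1] !![1, 1, 0; 1, 0, 2; 0, 2, 1] W32 where
  det := by decide +kernel
  wm := by decide +kernel
  conj := by decide +kernel
  inv1 := by decide +kernel
  inv2 := by decide +kernel
  word := by decide +kernel
  all := by decide +kernel

theorem map_transvection {K L : Type*} [Field K] [Field L] (φ : K →+* L) {i j : Fin 3} (hij : i ≠ j) (c : K) :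
    Matrix.SpecialLinearGroup.map φ (Matrix.SpecialLinearGroup.transvection hij c) =
      Matrix.SpecialLinearGroup.transvection hij (φ c) := by
  apply Subtype.ext
  show (Matrix.transvection i j c).map φ = Matrix.transvection i j (φ c)
  ext a b
  simp only [Matrix.transvection, Matrix.map_apply, Matrix.add_apply, Matrix.single_apply, Matrix.one_apply, map_add]
  split_ifs <;> simp

/-- transport along an isomorphism of fields -/
theorem transport {K L : Type*} [Field K] [Field L] (φ : K ≃+* L) {c : K}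
    (h : ∃ v : SL K, closure ({ww c, v * ww c * v⁻¹} : Set (SL K)) = ⊤) :
    ∃ v : SL L, closure ({ww (φ c), v * ww (φ c) * v⁻¹} : Set (SL L)) = ⊤ := by
  obtain ⟨v, hv⟩ := h
  have hs : Function.Surjective (Matrix.SpecialLinearGroup.map (n := Fin 3) (φ : K →+* L)) := by
    intro x
    refine ⟨Matrix.SpecialLinearGroup.map (φ.symm : L →+* K) x, ?_⟩
    apply Subtype.ext
    ext a b
    show φ (φ.symm (x.1 a b)) = x.1 a b
    exact φ.apply_symm_apply _
  have hw : Matrix.SpecialLinearGroup.map (n := Fin 3) (φ : K →+* L) (ww c) = ww (φ c) := by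
    unfold ww
    rw [map_mul, map_transvection, map_transvection, map_one]
    rfl
  refine ⟨Matrix.SpecialLinearGroup.map (φ : K →+* L) v, ?_⟩
  have h1 := congrArg (Subgroup.map (Matrix.SpecialLinearGroup.map (n := Fin 3) (φ : K →+* L))) hv
  rw [MonoidHom.map_closure, Set.image_pair, map_mul, map_mul, map_inv, hw, Subgroup.map_top_of_surjective _ hs] at h1
  exact h1

/-- the case `q = 2, 3` -/
theorem sl3_small {F : Type*} [Field F] [Fintype F] (hF : Fintype.card F = 2 ∨ Fintype.card F = 3) {c : F} (hc : c ≠ 0) :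
    ∃ v : Matrix.SpecialLinearGroup (Fin 3) F,
      closure ({Matrix.SpecialLinearGroup.transvection (show (0 : Fin 3) ≠ 1 by decide) (1 : F) *
          Matrix.SpecialLinearGroup.transvection (show (1 : Fin 3) ≠ 0 by decide) c,
        v * (Matrix.SpecialLinearGroup.transvection (show (0 : Fin 3) ≠ 1 by decide) (1 : F) *
          Matrix.SpecialLinearGroup.transvection (show (1 : Fin 3) ≠ 0 by decide) c) * v⁻¹} :
        Set (Matrix.SpecialLinearGroup (Fin 3) F)) = ⊤ := by
  rcases hF with h | h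
  · let φ : ZMod 2 ≃+* F := ZMod.ringEquivOfPrime F Nat.prime_two h
    have h1 : ∀ d : ZMod 2, d ≠ 0 → d = 1 := by decide
    have h2 : φ.symm c = 1 := h1 _ (by
      intro h0
      exact hc (by rw [← φ.apply_symm_apply c, h0, map_zero]))
    have h3 : φ 1 = c := by rw [← h2, φ.apply_symm_apply]
    have h4 := transport φ dat2.top
    rw [h3] at h4
    exact h4
  · let φ : ZMod 3 ≃+* F := ZMod.ringEquivOfPrime F Nat.prime_three h
    have h1 : ∀ d : ZMod 3, d ≠ 0 → d = 1 ∨ d = 2 := by decide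
    have h0 : φ.symm c ≠ 0 := by
      intro h0
      exact hc (by rw [← φ.apply_symm_apply c, h0, map_zero])
    rcases h1 _ h0 with h2 | h2
    · have h3 : φ 1 = c := by rw [← h2, φ.apply_symm_apply]
      have h4 := transport φ dat31.top
      rw [h3] at h4
      exact h4
    · have h3 : φ 2 = c := by rw [← h2, φ.apply_symm_apply]
      have h4 := transport φ dat32.top
      rw [h3] at h4
      exact h4

end Cfsg.Agent.H867.Gen.SLThree
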